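import Cfsg.Agent.Lib.EqualOrder.Linear
import Cfsg.Prelude.Def_Perm
import Cfsg.Prelude.Def_Transfer

/-!
A group with a normal elementary abelian Sylow subgroup whose subgroups of each order are
conjugate, seen as a group of semi-affine maps modulo its `p'`-core.
-/

set_option autoImplicit false
set_option linter.style.haveILetI false
set_option linter.unusedSectionVars false

namespace CfsgLib.EqualOrder

open Subgroup

variable {M : Type*} [Group M] [Finite M] {p n : ℕ} [hp : Fact p.Prime]

theorem normalizer_affine (P : Subgroup M) [hPn : P.Normal] (hel : Cfsg.IsElementaryAbelian p P)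
    (hcard : Nat.card P = p ^ n) (hn : 3 ≤ n) (hidx : ¬ p ∣ P.index)
    (hsolv : Group.IsSolvable (M ⧸ Cfsg.pPrimeCore p M))
    (htr : ∀ U V : Subgroup M, U ≤ P → V ≤ P → Nat.card U = Nat.card V →
      ∃ g : M, U.map (MulAut.conj g).toMonoidHom = V) :
    (n = 3 ∧ (∃ f : M ⧸ Cfsg.pPrimeCore p M →* ↥(Cfsg.semiaffineGroup (GaloisField p 3)),
        Function.Injective f) ∧
      (p = 2 → Nonempty (M ⧸ Cfsg.pPrimeCore p M ≃* Cfsg.semiaffineGroup (GaloisField 2 3)) ∨
        Nonempty (M ⧸ Cfsg.pPrimeCore p M ≃* Cfsg.affineGroup (GaloisField 2 3)))) ∨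
    (n = 5 ∧ p = 2 ∧
      Nonempty (M ⧸ Cfsg.pPrimeCore p M ≃* Cfsg.semiaffineGroup (GaloisField 2 5))) := by
  classical
  letI : CommGroup P :=
    { (inferInstance : Group P) with
      mul_comm := fun a b => hel.1.is_comm.comm a b }
  have hexp : ∀ x : P, x ^ p = 1 := fun x => Subtype.ext (hel.2 x x.2)
  let cN : M →* MulAut P := MulAut.conjNormal
  set O := Cfsg.pPrimeCore p M with hO
  have hOn : O.Normal := inferInstance
  have hOc : (Nat.card O).Coprime p := Coprime.pPrimeCore_coprime hp.out
  have hdis : Disjoint O P := by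
    rw [disjoint_iff]
    refine inf_eq_bot_of_coprime ?_
    rw [hcard]
    exact hOc.pow_right n
  have hOker : O ≤ cN.ker := fun o ho => MonoidHom.mem_ker.2 (MulEquiv.ext fun x => Subtype.ext (by
    show ((MulAut.conjNormal o x : P) : M) = (x : M)
    rw [MulAut.conjNormal_apply, (commute_of_normal_of_disjoint O P hOn hPn hdis o x ho x.2).eq,
      mul_inv_cancel_right]))
  let α : M ⧸ O →* MulAut P := QuotientGroup.lift O cN hOker
  haveI := hsolv
  obtain ⟨hdim, e, hsl, htwo⟩ := semilinear_of_transitive hexp hcard hn α (by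
    intro U V hUV
    obtain ⟨g, hg⟩ := htr (U.map P.subtype) (V.map P.subtype) (map_subtype_le U) (map_subtype_le V)
      (by rw [card_map_of_injective P.subtype_injective, card_map_of_injective P.subtype_injective,
        hUV])
    refine ⟨QuotientGroup.mk g, map_injective P.subtype_injective ?_⟩
    rw [← hg, map_map, map_map]
    congr 1)
  -- a complement
  have hco : (Nat.card P).Coprime P.index := by
    rw [hcard]
    exact ((hp.out.coprime_iff_not_dvd).2 hidx).pow_left n
  obtain ⟨H, hH⟩ := exists_right_complement'_of_coprime hco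
  have hHcard : Nat.card H = P.index := (hH.symm.index_eq_card).symm
  let j : P → M ⧸ H := fun u => (QuotientGroup.mk (u : M))
  have hj : Function.Bijective j := by
    constructor
    · intro u v h
      have h1 : ((u : M))⁻¹ * v ∈ H := QuotientGroup.eq.1 h
      have h2 : ((u : M))⁻¹ * v ∈ P := mul_mem (inv_mem u.2) v.2
      have h3 := hH.disjoint.le_bot ⟨h2, h1⟩
      exact Subtype.ext (inv_mul_eq_one.1 (mem_bot.1 h3))
    · intro y
      induction y using QuotientGroup.induction_on with
      | H g =>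
        obtain ⟨⟨u, h⟩, huh⟩ := (isComplement'_def.1 hH).2 g
        refine ⟨u, QuotientGroup.eq.2 ?_⟩
        rw [← huh]
        show ((u : P) : M)⁻¹ * ((u : M) * (h : M)) ∈ H
        rw [inv_mul_cancel_left]
        exact h.2
  let J : M ⧸ H ≃ GaloisField p n :=
    (Equiv.ofBijective j hj).symm.trans (Additive.ofMul.trans e.toEquiv)
  have hJ : ∀ u : P, J (j u) = e (Additive.ofMul u) := fun u => by
    show e (Additive.ofMul ((Equiv.ofBijective j hj).symm (j u))) = _
    rw [Equiv.ofBijective_symm_apply_apply]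
  let θ : M →* Equiv.Perm (GaloisField p n) :=
    (J.permCongrHom).toMonoidHom.comp (MulAction.toPermHom M (M ⧸ H))
  have hθu : ∀ u : P, ∀ x : GaloisField p n,
      θ (u : M) x = x + e (Additive.ofMul u) := by
    intro u x
    obtain ⟨y, rfl⟩ := J.surjective x
    obtain ⟨w, rfl⟩ := hj.2 y
    show J ((u : M) • J.symm (J (j w))) = _
    rw [Equiv.symm_apply_apply, hJ, show (u : M) • j w = j (u * w) from rfl, hJ, ofMul_mul, map_add,
      add_comm]
  have hθh : ∀ h ∈ H, ∀ w : P,
      θ h (e (Additive.ofMul w)) = e (Additive.ofMul (cN h w)) := by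
    intro h hh w
    show J (h • J.symm (e (Additive.ofMul w))) = _
    rw [show J.symm (e (Additive.ofMul w)) = j w from J.injective (by
      rw [Equiv.apply_symm_apply, hJ]), ← hJ]
    congr 1
    show ((h * (w : M) : M) : M ⧸ H) = ((cN h w : P) : M)
    rw [QuotientGroup.eq, MulAut.conjNormal_apply]
    have : (h * (w : M))⁻¹ * (h * w * h⁻¹) = h⁻¹ := by group
    rw [this]
    exact inv_mem hh
  have hsl' : ∀ h ∈ H, ∃ (a : GaloisField p n) (σ : GaloisField p n ≃+* GaloisField p n),
      a ≠ 0 ∧ ∀ x, θ h x = a * σ x := by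
    intro h hh
    obtain ⟨a, σ, ha, hs⟩ := hsl (QuotientGroup.mk h)
    refine ⟨a, σ, ha, fun x => ?_⟩
    obtain ⟨w, rfl⟩ := (Additive.ofMul.trans e.toEquiv).surjective x
    exact (hθh h hh w).trans (hs w)
  have hmem : ∀ g : M, θ g ∈ Cfsg.semiaffineGroup (GaloisField p n) := by
    intro g
    obtain ⟨⟨u, h⟩, rfl⟩ := (isComplement'_def.1 hH).2 g
    obtain ⟨a, σ, ha, hs⟩ := hsl' h h.2
    refine ⟨Units.mk0 a ha, e (Additive.ofMul u), σ, fun x => ?_⟩
    show θ ((u : M) * (h : M)) x = _
    rw [map_mul, Equiv.Perm.coe_mul, Function.comp_apply, hθu, hs]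
    rfl
  let θ' : M →* ↥(Cfsg.semiaffineGroup (GaloisField p n)) := θ.codRestrict _ hmem
  have hker : O = θ'.ker := by
    have h1 : θ.ker = H.normalCore := by
      rw [normalCore_eq_ker]
      ext g
      simp only [MonoidHom.mem_ker]
      exact ⟨fun h => (J.permCongrHom).injective (h.trans (map_one _).symm),
        fun h => (congrArg J.permCongrHom h).trans (map_one _)⟩
    rw [MonoidHom.ker_codRestrict, h1]
    refine le_antisymm (normal_le_normalCore.2 ?_) (Coprime.le_pPrimeCore ?_)
    · have hd : Nat.card ↥(H ⊔ O) ∣ Nat.card H := by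
        have h2 : Nat.card ↥(H ⊔ O) ∣ Nat.card M := card_subgroup_dvd_card _
        rw [← P.card_mul_index, ← hHcard] at h2
        refine Nat.Coprime.dvd_of_dvd_mul_left ?_ h2
        refine Nat.Coprime.coprime_dvd_left (Coprime.card_sup_dvd_of_normal H O) ?_
        rw [hHcard, hcard]
        refine Nat.Coprime.mul_left ?_ (hOc.pow_right n)
        rw [← hcard]; exact hco.symm
      have heq : H = H ⊔ O :=
        eq_of_le_of_card_ge le_sup_left (Nat.le_of_dvd Nat.card_pos hd)
      rw [heq]
      exact le_sup_right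
    · refine Nat.Coprime.coprime_dvd_left (card_dvd_of_le (normalCore_le H)) ?_
      rw [hHcard]
      exact ((hp.out.coprime_iff_not_dvd).2 hidx).symm
  let f : M ⧸ O →* ↥(Cfsg.semiaffineGroup (GaloisField p n)) :=
    QuotientGroup.lift O θ' hker.le
  have hf : Function.Injective f := by
    rw [← MonoidHom.ker_eq_bot_iff, eq_bot_iff]
    intro y hy
    induction y using QuotientGroup.induction_on with
    | H g => exact mem_bot.2 ((QuotientGroup.eq_one_iff g).2 (hker ▸ hy))
  -- maps obtained from the linear statement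
  have hreal : ∀ (a b : GaloisField p n) (σ : GaloisField p n ≃+* GaloisField p n),
      (∃ q : M ⧸ O, ∀ x : P, e (Additive.ofMul (α q x)) = a * σ (e (Additive.ofMul x))) →
      ∃ g : M, ∀ x, θ g x = a * σ x + b := by
    rintro a b σ ⟨q, hq⟩
    induction q using QuotientGroup.induction_on with
    | H g =>
      obtain ⟨⟨u, h⟩, huh⟩ := (isComplement'_def.1 hH).2 g
      obtain ⟨v, hv⟩ := (Additive.ofMul.trans e.toEquiv).surjective b
      refine ⟨(v : M) * (h : M), fun x => ?_⟩
      obtain ⟨w, rfl⟩ := (Additive.ofMul.trans e.toEquiv).surjective x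
      rw [map_mul, Equiv.Perm.coe_mul, Function.comp_apply, hθu]
      show θ (h : M) (e (Additive.ofMul w)) + e (Additive.ofMul v) = _
      rw [hθh _ h.2, show e (Additive.ofMul v) = b from hv]
      congr 1
      have hu : cN (u : M) = 1 := MulEquiv.ext fun z => Subtype.ext (by
        show ((MulAut.conjNormal (u : M) z : P) : M) = (z : M)
        rw [MulAut.conjNormal_apply]
        have := congrArg Subtype.val (mul_comm u z)
        rw [coe_mul, coe_mul] at this
        rw [this, mul_inv_cancel_right])
      have : cN (h : M) = α (QuotientGroup.mk g) := by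
        show cN (h : M) = cN g
        rw [← huh]
        show cN (h : M) = cN ((u : M) * (h : M))
        rw [map_mul, hu, one_mul]
      rw [this]
      exact hq w
  rcases hdim with rfl | ⟨rfl, hp2⟩
  · refine Or.inl ⟨rfl, ⟨f, hf⟩, fun hp2 => ?_⟩
    subst hp2
    rcases htwo rfl with hall | ⟨-, hlin, hunit⟩
    · refine Or.inl ⟨MulEquiv.ofBijective f ⟨hf, ?_⟩⟩
      rintro ⟨π, a, b, σ, hπ⟩
      obtain ⟨g, hg⟩ := hreal a b σ (hall _ a.ne_zero σ)
      exact ⟨QuotientGroup.mk g, Subtype.ext (Equiv.ext fun x => (hg x).trans (hπ x).symm)⟩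
    · right
      have hmem' : ∀ q, (f q : Equiv.Perm (GaloisField 2 3)) ∈
          Cfsg.affineGroup (GaloisField 2 3) := by
        intro q
        induction q using QuotientGroup.induction_on with
        | H g =>
          obtain ⟨⟨u, h⟩, rfl⟩ := (isComplement'_def.1 hH).2 g
          obtain ⟨a, hs⟩ := hlin (QuotientGroup.mk (h : M))
          have ha : a ≠ 0 := by
            intro ha
            obtain ⟨y, hy⟩ := e.surjective 1
            obtain ⟨z, hz⟩ := (cN (h : M)).surjective (Additive.toMul y)
            have := hs z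
            rw [ha, zero_mul] at this
            rw [show α (QuotientGroup.mk (h : M)) z = Additive.toMul y from hz] at this
            exact one_ne_zero (hy.symm.trans this)
          refine ⟨Units.mk0 a ha, e (Additive.ofMul u), fun x => ?_⟩
          obtain ⟨w, rfl⟩ := (Additive.ofMul.trans e.toEquiv).surjective x
          show θ ((u : M) * (h : M)) _ = _
          rw [map_mul, Equiv.Perm.coe_mul, Function.comp_apply, hθu]
          show θ (h : M) (e (Additive.ofMul w)) + e (Additive.ofMul u) = _
          rw [hθh _ h.2]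
          exact congrArg (· + e (Additive.ofMul u)) (hs w)
      let f' : M ⧸ O →* ↥(Cfsg.affineGroup (GaloisField 2 3)) :=
        ((Cfsg.semiaffineGroup (GaloisField 2 3)).subtype.comp f).codRestrict _ hmem'
      refine ⟨MulEquiv.ofBijective f' ⟨fun x y hxy => hf (Subtype.ext (show ((f x : Equiv.Perm (GaloisField 2 3))) = f y from congrArg (fun z : ↥(Cfsg.affineGroup (GaloisField 2 3)) => (z : Equiv.Perm (GaloisField 2 3))) hxy)), ?_⟩⟩
      rintro ⟨π, a, b, hπ⟩
      obtain ⟨q, hq⟩ := hunit _ a.ne_zero
      obtain ⟨g, hg⟩ := hreal a b (RingEquiv.refl _) ⟨q, hq⟩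
      exact ⟨QuotientGroup.mk g, Subtype.ext (Equiv.ext fun x => (hg x).trans (hπ x).symm)⟩
  · subst hp2
    refine Or.inr ⟨rfl, rfl, ?_⟩
    rcases htwo rfl with hall | ⟨h53, -⟩
    · refine ⟨MulEquiv.ofBijective f ⟨hf, ?_⟩⟩
      rintro ⟨π, a, b, σ, hπ⟩
      obtain ⟨g, hg⟩ := hreal a b σ (hall _ a.ne_zero σ)
      exact ⟨QuotientGroup.mk g, Subtype.ext (Equiv.ext fun x => (hg x).trans (hπ x).symm)⟩
    · exact absurd h53 (by norm_num)

end CfsgLib.EqualOrder
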