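import Mathlib
import Cfsg.Agent.Lib.Coprime.Core

/-!
Counting the subgroups of order `p^2` of an elementary abelian group and the orbit of a group of
automorphisms on them.
-/

set_option autoImplicit false
set_option linter.style.haveILetI false
set_option linter.unusedSectionVars false

namespace CfsgLib.EqualOrder

open Subgroup

/-- Pairs `(u, v)` with `u ≠ 1` and `v ∉ ⟨u⟩`. -/
abbrev IndPairs (A : Type*) [Group A] : Type _ :=
  {w : A × A // w.1 ≠ 1 ∧ w.2 ∉ zpowers w.1}

theorem card_indPairs {A : Type*} [Group A] [Finite A] {p m : ℕ} [Fact p.Prime]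
    (hexp : ∀ x : A, x ^ p = 1) (hcard : Nat.card A = p ^ m) :
    Nat.card (IndPairs A) = (p ^ m - 1) * (p ^ m - p) := by
  classical
  haveI := Fintype.ofFinite A
  let e : IndPairs A ≃ (Σ u : {u : A // u ≠ 1}, {v : A // v ∉ zpowers u.1}) :=
    { toFun := fun w => ⟨⟨w.1.1, w.2.1⟩, ⟨w.1.2, w.2.2⟩⟩
      invFun := fun s => ⟨(s.1.1, s.2.1), s.1.2, s.2.2⟩
      left_inv := fun w => rfl
      right_inv := fun s => rfl }
  rw [Nat.card_congr e, Nat.card_sigma]
  have h : ∀ u : {u : A // u ≠ 1}, Nat.card {v : A // v ∉ zpowers u.1} = p ^ m - p := by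
    intro u
    have ho : orderOf u.1 = p := orderOf_eq_prime (hexp u.1) u.2
    show Nat.card ↥((zpowers u.1 : Set A)ᶜ) = _
    rw [Nat.card_coe_set_eq, Set.ncard_compl, hcard, ← Nat.card_coe_set_eq]
    congr 1
    rw [← ho, ← Nat.card_zpowers]
    rfl
  rw [Finset.sum_congr rfl fun u _ => h u, Finset.sum_const, smul_eq_mul]
  congr 1
  rw [Finset.card_univ, Fintype.card_subtype_compl, Fintype.card_subtype_eq,
    ← Nat.card_eq_fintype_card, hcard]

variable {E : Type*} [CommGroup E] [Finite E] {p n : ℕ} [hp : Fact p.Prime]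

/-- The subgroups of order `p^2`. -/
abbrev Planes (E : Type*) [Group E] (p : ℕ) : Type _ := {U : Subgroup E // Nat.card U = p ^ 2}

theorem card_sup_zpowers (hexp : ∀ x : E, x ^ p = 1) {u v : E} (hu : u ≠ 1) (hv : v ∉ zpowers u) :
    Nat.card ↥(zpowers u ⊔ zpowers v) = p ^ 2 := by
  have hv1 : v ≠ 1 := fun h => hv (h ▸ one_mem _)
  have hou : orderOf u = p := orderOf_eq_prime (hexp u) hu
  have hov : orderOf v = p := orderOf_eq_prime (hexp v) hv1
  have hd : Nat.card ↥(zpowers u ⊔ zpowers v) ∣ p ^ 2 := by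
    refine dvd_trans (Coprime.card_sup_dvd_of_normal _ _) ?_
    rw [Nat.card_zpowers, Nat.card_zpowers, hou, hov, sq]
  have hlt : zpowers u < zpowers u ⊔ zpowers v := by
    refine lt_of_le_of_ne le_sup_left fun h => hv ?_
    rw [h]; exact le_sup_right (a := zpowers u) (mem_zpowers v)
  have hgt : p < Nat.card ↥(zpowers u ⊔ zpowers v) := by
    refine lt_of_le_of_lt (le_of_eq (hou ▸ (Nat.card_zpowers u).symm)) ?_
    exact lt_of_le_of_ne (card_le_of_le hlt.le)
      fun h => hlt.ne (eq_of_le_of_card_ge hlt.le h.ge)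
  obtain ⟨j, hj, he⟩ := (Nat.dvd_prime_pow hp.out).1 hd
  rcases eq_or_lt_of_le hj with rfl | hj'
  · exact he
  · exfalso
    have : p ^ j ≤ p ^ 1 := Nat.pow_le_pow_right hp.out.pos (by omega)
    rw [pow_one] at this
    omega

/-- The number of planes times the number of frames of one plane. -/
theorem card_planes_mul (hexp : ∀ x : E, x ^ p = 1) (hcard : Nat.card E = p ^ n) :
    Nat.card (Planes E p) * ((p ^ 2 - 1) * (p ^ 2 - p)) = (p ^ n - 1) * (p ^ n - p) := by
  classical
  haveI := Fintype.ofFinite (Planes E p)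
  rw [← card_indPairs hexp hcard]
  have hU : ∀ U : Planes E p, Nat.card (IndPairs U.1) = (p ^ 2 - 1) * (p ^ 2 - p) := fun U =>
    card_indPairs (fun x => Subtype.ext (by simpa using hexp (x : E))) U.2
  have hmem : ∀ (U : Subgroup E) (u v : U), (v : E) ∈ zpowers (u : E) ↔ v ∈ zpowers u := by
    intro U u v
    simp only [mem_zpowers_iff]
    exact ⟨fun ⟨k, hk⟩ => ⟨k, Subtype.ext (by simpa using hk)⟩,
      fun ⟨k, hk⟩ => ⟨k, by rw [← hk]; simp⟩⟩
  let Φ : (Σ U : Planes E p, IndPairs U.1) → IndPairs E := fun s =>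
    ⟨((s.2.1.1 : E), (s.2.1.2 : E)), fun h => s.2.2.1 (Subtype.ext (by simpa using h)),
      fun h => s.2.2.2 ((hmem _ _ _).1 h)⟩
  have hbij : Function.Bijective Φ := by
    constructor
    · rintro ⟨⟨U, hUc⟩, ⟨⟨u, v⟩, hu, hv⟩⟩ ⟨⟨U', hUc'⟩, ⟨⟨u', v'⟩, hu', hv'⟩⟩ h
      simp only [Φ, Subtype.mk.injEq, Prod.mk.injEq] at h
      obtain ⟨h1, h2⟩ := h
      have hc : Nat.card ↥(zpowers (u : E) ⊔ zpowers (v : E)) = p ^ 2 :=
        card_sup_zpowers hexp (fun h => hu (Subtype.ext (by simpa using h)))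
          (fun h => hv ((hmem _ _ _).1 h))
      have e1 : zpowers (u : E) ⊔ zpowers (v : E) = U :=
        eq_of_le_of_card_ge (sup_le (zpowers_le.2 u.2) (zpowers_le.2 v.2)) (by rw [hc, hUc])
      have e2 : zpowers (u : E) ⊔ zpowers (v : E) = U' :=
        eq_of_le_of_card_ge (sup_le (zpowers_le.2 (h1 ▸ u'.2)) (zpowers_le.2 (h2 ▸ v'.2)))
          (by rw [hc, hUc'])
      obtain rfl : U = U' := e1.symm.trans e2
      obtain rfl : u = u' := Subtype.ext h1
      obtain rfl : v = v' := Subtype.ext h2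
      rfl
    · rintro ⟨⟨u, v⟩, hu, hv⟩
      refine ⟨⟨⟨zpowers u ⊔ zpowers v, card_sup_zpowers hexp hu hv⟩,
        ⟨(⟨u, le_sup_left (b := zpowers v) (mem_zpowers u)⟩,
          ⟨v, le_sup_right (a := zpowers u) (mem_zpowers v)⟩),
          fun h => hu (congrArg Subtype.val h), fun h => hv ((hmem _ _ _).2 h)⟩⟩, ?_⟩
      rfl
  rw [← Nat.card_eq_of_bijective Φ hbij, Nat.card_sigma, Finset.sum_congr rfl fun U _ => hU U,
    Finset.sum_const, smul_eq_mul, Finset.card_univ, Nat.card_eq_fintype_card]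

/-- A group of automorphisms that is transitive on planes and contains `k` maps fixing each of
them has order divisible by `k` times the number of planes. -/
theorem planes_dvd_card {k : ℕ} (L : Subgroup (MulAut E)) (S : Subgroup (MulAut E))
    (hS : S ≤ L) (hSk : Nat.card S = k)
    (hfix : ∀ g ∈ S, ∀ U : Subgroup E, Nat.card U = p ^ 2 → U.map g.toMonoidHom = U)
    (htr : ∀ U V : Subgroup E, Nat.card U = p ^ 2 → Nat.card V = p ^ 2 →
      ∃ g ∈ L, U.map g.toMonoidHom = V) (hne : Nonempty (Planes E p)) :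
    k * Nat.card (Planes E p) ∣ Nat.card L := by
  classical
  obtain ⟨⟨U₀, hU₀⟩⟩ := hne
  let sm : L → Planes E p → Planes E p := fun g U =>
    ⟨U.1.map (g : MulAut E).toMonoidHom, by
      rw [card_map_of_injective (g : MulAut E).injective, U.2]⟩
  letI : MulAction L (Planes E p) :=
    { smul := sm
      one_smul := fun U => Subtype.ext (Subgroup.map_id U.1)
      mul_smul := fun g h U => Subtype.ext (by
        show U.1.map (((g * h : L) : MulAut E)).toMonoidHom = _
        rw [show (((g * h : L) : MulAut E)).toMonoidHom =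
          (g : MulAut E).toMonoidHom.comp (h : MulAut E).toMonoidHom from MonoidHom.ext fun _ => rfl,
          ← Subgroup.map_map]
        rfl) }
  set a : Planes E p := ⟨U₀, hU₀⟩ with ha
  have horb : MulAction.orbit L a = Set.univ := by
    refine Set.eq_univ_of_forall fun V => ?_
    obtain ⟨g, hg, e⟩ := htr U₀ V.1 hU₀ V.2
    exact ⟨⟨g, hg⟩, Subtype.ext e⟩
  have hidx : (MulAction.stabilizer L a).index = Nat.card (Planes E p) := by
    rw [MulAction.index_stabilizer, horb, Set.ncard_univ]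
  rw [← (MulAction.stabilizer L a).card_mul_index, hidx]
  refine mul_dvd_mul_right ?_ _
  have hle : S.subgroupOf L ≤ MulAction.stabilizer L a := fun g hg =>
    Subtype.ext (hfix _ (mem_subgroupOf.1 hg) U₀ hU₀)
  refine dvd_trans (dvd_of_eq ?_) (card_dvd_of_le hle)
  rw [← hSk, Nat.card_congr (subgroupOfEquivOfLe hS).toEquiv]

end CfsgLib.EqualOrder
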