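import Cfsg.Agent.Lib.EqualOrder.Counting
import Cfsg.Agent.Lib.Coprime.Hall
import Cfsg.Agent.Lib.Char.TransLinear.Main
import Cfsg.Agent.Lib.Char.TransLinear.AutCard

/-!
Solvable automorphism groups of an elementary abelian group of order `p^n`, `n ≥ 3`, transitive
on the subgroups of each order: semilinear, with `n = 3`, or `n = 5` and `p = 2`.
-/

set_option autoImplicit false
set_option linter.style.haveILetI false
set_option linter.unusedSectionVars false

namespace CfsgLib.EqualOrder

open Subgroup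

variable {E : Type*} [CommGroup E] [Finite E] {p n : ℕ} [hp : Fact p.Prime]

theorem pow_eq_of_cast_eq (hexp : ∀ x : E, x ^ p = 1) (x : E) {a b : ℕ}
    (h : (a : ZMod p) = (b : ZMod p)) : x ^ a = x ^ b := by
  rw [pow_eq_pow_mod a (hexp x), pow_eq_pow_mod b (hexp x), (ZMod.natCast_eq_natCast_iff' a b p).1 h]

/-- The power maps prime to `p`. -/
def powAut (hexp : ∀ x : E, x ^ p = 1) : (ZMod p)ˣ →* MulAut E where
  toFun c :=
    { toFun := fun x => x ^ (c : ZMod p).val
      invFun := fun x => x ^ ((c⁻¹ : (ZMod p)ˣ) : ZMod p).val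
      left_inv := fun x => by
        show (x ^ _) ^ _ = x
        rw [← pow_mul]
        conv_rhs => rw [← pow_one x]
        refine pow_eq_of_cast_eq hexp x ?_
        rw [Nat.cast_mul, ZMod.natCast_zmod_val, ZMod.natCast_zmod_val, ← Units.val_mul, Nat.cast_one,
          Units.val_eq_one]
        group
      right_inv := fun x => by
        show (x ^ _) ^ _ = x
        rw [← pow_mul]
        conv_rhs => rw [← pow_one x]
        refine pow_eq_of_cast_eq hexp x ?_
        rw [Nat.cast_mul, ZMod.natCast_zmod_val, ZMod.natCast_zmod_val, ← Units.val_mul, Nat.cast_one,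
          Units.val_eq_one]
        group
      map_mul' := fun x y => mul_pow x y _ }
  map_one' := MulEquiv.ext fun x => by
    show x ^ _ = x
    conv_rhs => rw [← pow_one x]
    exact pow_eq_of_cast_eq hexp x (by simp)
  map_mul' a b := MulEquiv.ext fun x => by
    show x ^ _ = (x ^ _) ^ _
    rw [← pow_mul]
    exact pow_eq_of_cast_eq hexp x (by simp [mul_comm])

theorem powAut_apply (hexp : ∀ x : E, x ^ p = 1) (c : (ZMod p)ˣ) (x : E) :
    powAut hexp c x = x ^ (c : ZMod p).val := rfl

theorem powAut_injective (hexp : ∀ x : E, x ^ p = 1) {x : E} (hx : x ≠ 1) :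
    Function.Injective (powAut (p := p) hexp) := by
  intro a b h
  have h1 : x ^ (a : ZMod p).val = x ^ (b : ZMod p).val := DFunLike.congr_fun h x
  rw [pow_inj_mod, orderOf_eq_prime (hexp x) hx, Nat.mod_eq_of_lt (ZMod.val_lt _),
    Nat.mod_eq_of_lt (ZMod.val_lt _)] at h1
  exact Units.ext (ZMod.val_injective p h1)

theorem map_powAut_eq (hexp : ∀ x : E, x ^ p = 1) (c : (ZMod p)ˣ) (U : Subgroup E) :
    U.map (powAut hexp c).toMonoidHom = U := by
  refine eq_of_le_of_card_ge ?_
    (by rw [card_map_of_injective (powAut hexp c).injective])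
  rintro _ ⟨x, hx, rfl⟩
  exact pow_mem hx _

section Semilinear

variable {F : Type*} [Field F] [Finite F] (e : Additive E ≃+ F)

/-- `g` is semilinear in the coordinates `e`. -/
def SLin (g : MulAut E) : Prop :=
  ∃ (a : F) (σ : F ≃+* F), a ≠ 0 ∧ ∀ x : E, e (Additive.ofMul (g x)) = a * σ (e (Additive.ofMul x))

theorem slin_of {g : MulAut E} {a : F} {σ : F ≃+* F}
    (h : ∀ x : E, e (Additive.ofMul (g x)) = a * σ (e (Additive.ofMul x))) : SLin e g := by
  refine ⟨a, σ, fun ha => ?_, h⟩
  have h0 : ∀ y : Additive E, e y = 0 := fun y => by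
    have := h (g.symm (Additive.toMul y))
    rw [MulEquiv.apply_symm_apply, ha, zero_mul] at this
    exact this
  exact one_ne_zero ((e.apply_symm_apply (1 : F)).symm.trans (h0 _))

theorem slin_unique {a b : F} {σ τ : F ≃+* F} (ha : a ≠ 0) (h : ∀ y, a * σ y = b * τ y) :
    a = b ∧ σ = τ := by
  have h1 : a = b := by simpa using h 1
  subst h1
  exact ⟨rfl, RingEquiv.ext fun y => mul_left_cancel₀ ha (h y)⟩

theorem slin_coeff {g : MulAut E} {a b : F} {σ τ : F ≃+* F} (ha : a ≠ 0)
    (h1 : ∀ x : E, e (Additive.ofMul (g x)) = a * σ (e (Additive.ofMul x)))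
    (h2 : ∀ x : E, e (Additive.ofMul (g x)) = b * τ (e (Additive.ofMul x))) : a = b ∧ σ = τ := by
  refine slin_unique ha fun y => ?_
  obtain ⟨x, rfl⟩ := e.surjective y
  exact (h1 (Additive.toMul x)).symm.trans (h2 (Additive.toMul x))

variable (L : Subgroup (MulAut E)) (hL : ∀ g ∈ L, SLin e g)

/-- The field automorphism of a semilinear map. -/
noncomputable def sigHom : L →* (F ≃+* F) where
  toFun g := (hL g g.2).choose_spec.choose
  map_one' := by
    obtain ⟨ha, h⟩ := (hL _ (1 : L).2).choose_spec.choose_spec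
    exact (slin_coeff e ha h (b := 1) (τ := 1) fun x => by rw [one_mul]; rfl).2
  map_mul' g g' := by
    obtain ⟨ha, h⟩ := (hL _ (g * g').2).choose_spec.choose_spec
    obtain ⟨ha1, h1⟩ := (hL _ g.2).choose_spec.choose_spec
    obtain ⟨ha2, h2⟩ := (hL _ g'.2).choose_spec.choose_spec
    refine (slin_coeff e ha h (b := (hL _ g.2).choose * (hL _ g.2).choose_spec.choose (hL _ g'.2).choose)
      (τ := (hL _ g.2).choose_spec.choose * (hL _ g'.2).choose_spec.choose) fun x => ?_).2
    rw [mul_assoc]
    show e (Additive.ofMul ((g : MulAut E) ((g' : MulAut E) x))) = _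
    rw [h1, h2, map_mul]
    rfl

/-- Coefficient and automorphism. -/
noncomputable def pairMap (g : L) : Fˣ × (F ≃+* F) :=
  (Units.mk0 (hL g g.2).choose (hL g g.2).choose_spec.choose_spec.1, sigHom e L hL g)

theorem pairMap_spec (g : L) (x : E) :
    e (Additive.ofMul ((g : MulAut E) x)) =
      ((pairMap e L hL g).1 : F) * (pairMap e L hL g).2 (e (Additive.ofMul x)) :=
  (hL g g.2).choose_spec.choose_spec.2 x

theorem pairMap_injective : Function.Injective (pairMap e L hL) := by
  intro g g' h
  refine Subtype.ext (MulEquiv.ext fun x => ?_)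
  have := pairMap_spec e L hL g x
  rw [h, ← pairMap_spec e L hL g' x] at this
  exact Additive.ofMul.injective (e.injective this)

include hL in
theorem card_dvd_semilinear : Nat.card L ∣ Nat.card Fˣ * Nat.card (F ≃+* F) := by
  let ψ := sigHom e L hL
  rw [← ψ.ker.card_mul_index, index_ker]
  refine mul_dvd_mul ?_ (card_subgroup_dvd_card _)
  let κ : ψ.ker →* Fˣ :=
    { toFun := fun g => (pairMap e L hL g.1).1
      map_one' := by
        obtain ⟨ha, h⟩ := (hL _ (1 : L).2).choose_spec.choose_spec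
        exact Units.ext (slin_coeff e ha h (b := 1) (τ := 1) fun x => by rw [one_mul]; rfl).1
      map_mul' := fun g g' => by
        obtain ⟨ha, h⟩ := (hL _ (g.1 * g'.1).2).choose_spec.choose_spec
        refine Units.ext (slin_coeff e ha h (τ := 1) fun x => ?_).1
        show e (Additive.ofMul ((g.1 : MulAut E) ((g'.1 : MulAut E) x))) = _
        rw [pairMap_spec e L hL g.1, pairMap_spec e L hL g'.1,
          show (pairMap e L hL g.1).2 = 1 from MonoidHom.mem_ker.1 g.2,
          show (pairMap e L hL g'.1).2 = 1 from MonoidHom.mem_ker.1 g'.2, Units.val_mul, mul_assoc]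
        rfl }
  refine card_dvd_of_injective κ fun g g' h => Subtype.ext (pairMap_injective e L hL ?_)
  exact Prod.ext h ((MonoidHom.mem_ker.1 g.2).trans (MonoidHom.mem_ker.1 g'.2).symm)

end Semilinear

theorem card_galoisAut (p : ℕ) [Fact p.Prime] {F : Type*} [Field F] [Finite F] {n : ℕ}
    (hcard : Nat.card F = p ^ n) [CharP F p] : Nat.card (F ≃+* F) = n := by
  letI := ZMod.algebra F p
  haveI : Module.Finite (ZMod p) F := Module.Finite.of_finite
  have e : (F ≃+* F) ≃ (F ≃ₐ[ZMod p] F) :=
    { toFun := fun σ => { σ with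
        commutes' := fun r => RingHom.congr_fun
          (Subsingleton.elim ((σ : F →+* F).comp (algebraMap (ZMod p) F)) (algebraMap (ZMod p) F)) r }
      invFun := fun σ => σ.toRingEquiv
      left_inv := fun _ => RingEquiv.ext fun _ => rfl
      right_inv := fun _ => AlgEquiv.ext fun _ => rfl }
  rw [Nat.card_congr e, IsGalois.card_aut_eq_finrank]
  have h := Module.natCard_eq_pow_finrank (K := ZMod p) (V := F)
  rw [hcard, Nat.card_zmod] at h
  exact (Nat.pow_right_injective (Fact.out : p.Prime).two_le h).symm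

theorem zmod_three_fifth : ∀ z : ZMod 3, z ^ 5 = 1 → z = 1 := by decide

/-- `3^4`: no solvable group of automorphisms has order divisible by `65`. -/
theorem not_five_thirteen (hexp : ∀ x : E, x ^ 3 = 1) (hcard : Nat.card E = 3 ^ 4)
    (L : Subgroup (MulAut E)) [Group.IsSolvable L] (h : 65 ∣ Nat.card L) : False := by
  haveI : Fact (Nat.Prime 3) := ⟨by norm_num⟩
  haveI h13 : Fact (Nat.Prime 13) := ⟨by norm_num⟩
  haveI h5 : Fact (Nat.Prime 5) := ⟨by norm_num⟩
  obtain ⟨m, hm⟩ := h
  have hGL : Nat.card L ∣ 24261120 := by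
    have := card_subgroup_dvd_card L
    rw [Char.card_mulAut_of_exponent_prime hexp hcard] at this
    exact this.trans (dvd_of_eq (by simp [Char.glCard, Finset.prod_range_succ]))
  have hmd : m ∣ 373248 := by
    rw [hm, show (24261120 : ℕ) = 65 * 373248 by norm_num] at hGL
    exact Nat.dvd_of_mul_dvd_mul_left (by norm_num) hGL
  have hco : (65 : ℕ).Coprime m := Nat.Coprime.coprime_dvd_right hmd (by norm_num)
  obtain ⟨W, hW⟩ := Coprime.exists_hall hm hco
  let W' := W.map L.subtype
  have hW' : Nat.card W' = 65 := by rw [card_map_of_injective L.subtype_injective, hW]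
  obtain ⟨M⟩ : Nonempty (Sylow 13 W') := inferInstance
  have hMc : Nat.card (M : Subgroup W') = 13 := by
    rw [M.card_eq_multiplicity, hW', show (65 : ℕ).factorization 13 = 1 by
      rw [show (65 : ℕ) = 5 * 13 by norm_num, Nat.factorization_mul (by norm_num) (by norm_num),
        Nat.Prime.factorization (by norm_num), Nat.Prime.factorization (by norm_num)]
      simp, pow_one]
  have hn : Nat.card (Sylow 13 W') = 1 := by
    have hd : Nat.card (Sylow 13 W') ∣ (M : Subgroup W').index := M.card_dvd_index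
    have hi : (M : Subgroup W').index = 5 := by
      have := (M : Subgroup W').card_mul_index
      rw [hMc, hW'] at this
      omega
    have h1 := card_sylow_modEq_one 13 W'
    rw [hi] at hd
    rcases (Nat.dvd_prime h5.out).1 hd with h' | h'
    · exact h'
    · rw [h'] at h1; exact absurd h1 (by decide)
  haveI : Subsingleton (Sylow 13 W') := Finite.card_le_one_iff_subsingleton.1 hn.le
  haveI hMn : (M : Subgroup W').Normal := Sylow.normal_of_subsingleton M
  let M' : Subgroup (MulAut E) := (M : Subgroup W').map W'.subtype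
  have hM' : Nat.card M' = 13 := by rw [card_map_of_injective W'.subtype_injective, hMc]
  -- fixed points of `M'`
  let C : Subgroup E :=
    { carrier := {x | ∀ m ∈ M', m x = x}
      one_mem' := fun m _ => map_one m
      mul_mem' := fun {a b} ha hb m hm => by rw [map_mul, ha m hm, hb m hm]
      inv_mem' := fun {a} ha m hm => by rw [map_inv, ha m hm] }
  have hCc : Nat.card C = 3 := by
    have hfp := (IsPGroup.of_card (n := 1) (p := 13) (G := M') (by rw [hM', pow_one])).card_modEq_card_fixedPoints E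
    have hfe : Nat.card (MulAction.fixedPoints M' E) = Nat.card C := by
      refine Nat.card_congr (Equiv.subtypeEquivRight fun x => ?_)
      exact ⟨fun h m hm => h ⟨m, hm⟩, fun h m => h m.1 m.2⟩
    rw [hfe, hcard] at hfp
    have hCd : Nat.card C ∣ 3 ^ 4 := hcard ▸ card_subgroup_dvd_card C
    obtain ⟨j, hj, he⟩ := (Nat.dvd_prime_pow (by norm_num)).1 hCd
    rw [he] at hfp ⊢
    interval_cases j
    · exact absurd hfp (by decide)
    · norm_num
    · exact absurd hfp (by decide)
    · exact absurd hfp (by decide)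
    · exfalso
      have hC : C = ⊤ := eq_top_of_card_eq C (he.trans hcard.symm)
      have hbot : M' = ⊥ := (eq_bot_iff_forall _).2 fun m hm => MulEquiv.ext fun x => by
        have hx : x ∈ C := by rw [hC]; exact mem_top x
        exact hx m hm
      rw [hbot, Subgroup.card_bot] at hM'
      norm_num at hM'
  -- an element of order five
  obtain ⟨y, hy⟩ := exists_prime_orderOf_dvd_card' (G := W') 5 (by rw [hW']; norm_num)
  have hy5 : (y : MulAut E) ^ 5 = 1 := by
    rw [← hy, ← Subgroup.orderOf_coe]; exact pow_orderOf_eq_one _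
  have hyC : ∀ x ∈ C, (y : MulAut E) x ∈ C := by
    intro x hx m hm
    obtain ⟨m₀, hm₀, rfl⟩ := hm
    have h2 : ((y⁻¹ * m₀ * y : W') : MulAut E) x = x := by
      refine hx _ ⟨y⁻¹ * m₀ * y, ?_, rfl⟩
      have := hMn.conj_mem m₀ hm₀ y⁻¹
      rwa [inv_inv] at this
    have h3 := congrArg (y : MulAut E) h2
    simpa [Subgroup.coe_mul, MulAut.mul_apply] using h3
  haveI : Fact (Nat.Prime (Nat.card C)) := ⟨by rw [hCc]; norm_num⟩
  obtain ⟨x, hxC, hx1⟩ : ∃ x ∈ C, x ≠ 1 := by
    by_contra hc
    push Not at hc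
    have : C = ⊥ := (eq_bot_iff_forall _).2 hc
    rw [this, Subgroup.card_bot] at hCc
    norm_num at hCc
  have hCz : C = zpowers x := by
    refine (eq_of_le_of_card_ge (zpowers_le.2 hxC) ?_).symm
    rw [Nat.card_zpowers, orderOf_eq_prime (hexp x) hx1, hCc]
  have hyx : (y : MulAut E) x = x := by
    have hmem := hyC x hxC
    rw [hCz, mem_zpowers_iff] at hmem
    obtain ⟨k, hk⟩ := hmem
    have hpow : ∀ i : ℕ, ((y : MulAut E) ^ i) x = x ^ (k ^ i) := by
      intro i
      induction i with
      | zero => simp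
      | succ i ih =>
        rw [pow_succ, MulAut.mul_apply, ← hk, map_zpow, ih, ← zpow_mul, pow_succ]
    have h5' := hpow 5
    rw [hy5, MulAut.one_apply] at h5'
    nth_rewrite 1 [← zpow_one x] at h5'
    rw [zpow_eq_zpow_iff_modEq, orderOf_eq_prime (hexp x) hx1] at h5'
    have hk5 : (k : ZMod 3) ^ 5 = 1 := by
      have := (ZMod.intCast_eq_intCast_iff _ _ 3).2 h5'
      push_cast at this
      exact this.symm
    have hk1 : (k : ZMod 3) = 1 := zmod_three_fifth _ hk5
    rw [← hk]
    nth_rewrite 2 [← zpow_one x]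
    rw [zpow_eq_zpow_iff_modEq, orderOf_eq_prime (hexp x) hx1]
    exact (ZMod.intCast_eq_intCast_iff _ _ 3).1 (by rw [hk1]; simp)
  let Y : Subgroup (MulAut E) := zpowers (y : MulAut E)
  have hYc : Nat.card Y = 5 ^ 1 := by rw [Nat.card_zpowers, Subgroup.orderOf_coe, hy, pow_one]
  have hfp := (IsPGroup.of_card (n := 1) (p := 5) (G := Y) hYc).card_modEq_card_fixedPoints E
  let D : Subgroup E :=
    { carrier := {z | (y : MulAut E) z = z}
      one_mem' := map_one _
      mul_mem' := fun {a b} ha hb => by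
        show (y : MulAut E) (a * b) = a * b
        rw [map_mul, show (y : MulAut E) a = a from ha, show (y : MulAut E) b = b from hb]
      inv_mem' := fun {a} ha => by
        show (y : MulAut E) a⁻¹ = a⁻¹
        rw [map_inv, show (y : MulAut E) a = a from ha] }
  have hfe : Nat.card (MulAction.fixedPoints Y E) = Nat.card D := by
    refine Nat.card_congr (Equiv.subtypeEquivRight fun z => ?_)
    refine ⟨fun h => h ⟨_, mem_zpowers _⟩, fun h g => ?_⟩
    have hle : Y ≤ MulAction.stabilizer (MulAut E) z :=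
      zpowers_le.2 (MulAction.mem_stabilizer_iff.2 h)
    exact MulAction.mem_stabilizer_iff.1 (hle g.2)
  rw [hfe, hcard] at hfp
  have hD3 : 3 ≤ Nat.card D := by
    rw [← orderOf_eq_prime (hexp x) hx1]
    exact orderOf_le_card_subgroup D hyx
  obtain ⟨j, hj, he⟩ := (Nat.dvd_prime_pow (by norm_num : Nat.Prime 3)).1 (hcard ▸ card_subgroup_dvd_card D)
  rw [he] at hfp hD3
  interval_cases j
  · norm_num at hD3
  · exact absurd hfp (by decide)
  · exact absurd hfp (by decide)
  · exact absurd hfp (by decide)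
  · have hD : D = ⊤ := eq_top_of_card_eq D (he.trans hcard.symm)
    have : (y : MulAut E) = 1 := MulEquiv.ext fun z => by
      have hz : z ∈ D := by rw [hD]; exact mem_top z
      exact hz
    rw [← Subgroup.orderOf_coe, this, orderOf_one] at hy
    norm_num at hy
where
  /-- an element of a finite subgroup has order at most its cardinality -/
  orderOf_le_card_subgroup (D : Subgroup E) {x : E} (hx : x ∈ D) : orderOf x ≤ Nat.card D :=
    Nat.le_of_dvd Nat.card_pos (by
      have := orderOf_dvd_natCard (⟨x, hx⟩ : D)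
      rwa [← Subgroup.orderOf_coe] at this)

/-- The numerical condition. -/
theorem dim_cases {p n K : ℕ} (hp : p.Prime) (hn : 3 ≤ n)
    (h1 : (p - 1) * K ∣ (p ^ n - 1) * n)
    (h2 : K * ((p ^ 2 - 1) * (p ^ 2 - p)) = (p ^ n - 1) * (p ^ n - p)) :
    n = 3 ∨ (n = 5 ∧ p = 2) := by
  have hp2 := hp.two_le
  obtain ⟨m, rfl⟩ : ∃ m, n = m + 1 := ⟨n - 1, by omega⟩
  have h3 := Nat.mul_dvd_mul_right h1 ((p ^ 2 - 1) * (p ^ 2 - p))
  rw [mul_assoc, h2, show p ^ (m + 1) - p = p * (p ^ m - 1) by
      rw [Nat.mul_sub_one, pow_succ'], show p ^ 2 - p = p * (p - 1) by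
      rw [Nat.mul_sub_one, sq]] at h3
  have h4 : ((p - 1) * (p ^ (m + 1) - 1) * p) * (p ^ m - 1) ∣
      ((p - 1) * (p ^ (m + 1) - 1) * p) * ((m + 1) * (p ^ 2 - 1)) := by
    convert h3 using 1 <;> ring
  have hpos : 0 < (p - 1) * (p ^ (m + 1) - 1) * p := by
    have : p ≤ p ^ (m + 1) := Nat.le_self_pow (by omega) p
    have a1 : 0 < p - 1 := by omega
    have a2 : 0 < p ^ (m + 1) - 1 := by omega
    positivity
  have h5 := Nat.dvd_of_mul_dvd_mul_left hpos h4
  have hsq : 4 ≤ p ^ 2 := by nlinarith
  have hle : p ^ m - 1 ≤ (m + 1) * (p ^ 2 - 1) :=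
    Nat.le_of_dvd (Nat.mul_pos (by omega) (by omega)) h5
  rcases (show m = 2 ∨ m = 3 ∨ m = 4 ∨ 5 ≤ m by omega) with rfl | rfl | rfl | hm
  · exact Or.inl rfl
  · exfalso
    have : p ≤ 3 := by
      by_contra hcon
      have : 4 * p ^ 2 ≤ p ^ 3 := by
        rw [pow_succ p 2, mul_comm]; exact Nat.mul_le_mul_left _ (by omega)
      omega
    interval_cases p <;> norm_num at h5
  · have : p ≤ 2 := by
      by_contra hcon
      have h9 : 9 ≤ p ^ 2 := by nlinarith
      have : 9 * p ^ 2 ≤ p ^ 4 := by
        rw [show p ^ 4 = p ^ 2 * p ^ 2 by ring]; exact Nat.mul_le_mul_right _ h9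
      omega
    exact Or.inr ⟨rfl, by omega⟩
  · exfalso
    obtain ⟨k, rfl⟩ : ∃ k, m = k + 2 := ⟨m - 2, by omega⟩
    have hk : ∀ j : ℕ, j + 8 ≤ 2 ^ (j + 3) := fun j => by
      induction j with
      | zero => norm_num
      | succ j ih => rw [show j + 1 + 3 = j + 3 + 1 by omega, pow_succ]; omega
    obtain ⟨j, rfl⟩ : ∃ j, k = j + 3 := ⟨k - 3, by omega⟩
    have h8 : j + 8 ≤ p ^ (j + 3) := (hk j).trans (Nat.pow_le_pow_left hp2 _)
    have : p ^ 2 * (j + 8) ≤ p ^ (j + 3 + 2) := by
      rw [pow_add p (j + 3) 2, mul_comm]; exact Nat.mul_le_mul_right _ h8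
    have h10 : (j + 3 + 2 + 1) * (p ^ 2 - 1) + (j + 6) = p ^ 2 * (j + 6) := by
      rw [show j + 3 + 2 + 1 = j + 6 by omega, Nat.mul_sub_one, mul_comm (p ^ 2)]
      have : j + 6 ≤ (j + 6) * p ^ 2 := Nat.le_mul_of_pos_right _ (by omega)
      omega
    rw [Nat.mul_add (p ^ 2) j 6] at h10
    rw [Nat.mul_add (p ^ 2) j 8] at this
    omega

section ToLinear

variable (L : Subgroup (MulAut E)) [Module (ZMod p) (Additive E)]

/-- Automorphisms as linear maps. -/
def toLinHom : L →* (Additive E ≃ₗ[ZMod p] Additive E) where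
  toFun g := (MulEquiv.toAdditive (g : MulAut E)).toLinearEquiv fun c x =>
    ZMod.map_smul (MonoidHom.toAdditive (g : MulAut E).toMonoidHom) c x
  map_one' := LinearEquiv.ext fun _ => rfl
  map_mul' g g' := LinearEquiv.ext fun x => by
    rw [LinearEquiv.mul_apply]
    rfl

end ToLinear

theorem exc_cases {p n : ℕ} (hpp : p.Prime) (hn : 3 ≤ n)
    (hexc : p ^ n ∈ ({9, 25, 49, 121, 529, 81} : Set ℕ)) : p = 3 ∧ n = 4 := by
  have h81 : p ^ n ≤ 529 := by
    simp only [Set.mem_insert_iff, Set.mem_singleton_iff] at hexc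
    omega
  have hple : p ≤ 8 := by
    by_contra hc
    have : 9 ^ 3 ≤ p ^ n := le_trans (Nat.pow_le_pow_left (by omega) 3)
      (Nat.pow_le_pow_right (by omega) hn)
    omega
  have hnle : n ≤ 9 := by
    by_contra hc
    have : 2 ^ 10 ≤ p ^ n := le_trans (Nat.pow_le_pow_right (by norm_num) (by omega : 10 ≤ n))
      (Nat.pow_le_pow_left hpp.two_le n)
    omega
  interval_cases p <;> norm_num at hpp <;> interval_cases n <;>
    simp at hexc ⊢

/-- **Main linear statement.** -/
theorem semilinear_of_transitive (hexp : ∀ x : E, x ^ p = 1) (hcard : Nat.card E = p ^ n)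
    (hn : 3 ≤ n) {Q : Type*} [Group Q] [Finite Q] [Group.IsSolvable Q] (α : Q →* MulAut E)
    (htr : ∀ U V : Subgroup E, Nat.card U = Nat.card V → ∃ q : Q, U.map (α q).toMonoidHom = V) :
    (n = 3 ∨ (n = 5 ∧ p = 2)) ∧ ∃ e : Additive E ≃+ GaloisField p n,
      (∀ q, SLin e (α q)) ∧
      (p = 2 →
        ((∀ a : GaloisField p n, a ≠ 0 → ∀ σ : GaloisField p n ≃+* GaloisField p n, ∃ q : Q,
            ∀ x : E, e (Additive.ofMul (α q x)) = a * σ (e (Additive.ofMul x))) ∨
          (n = 3 ∧ (∀ q, ∃ a : GaloisField p n, ∀ x : E,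
              e (Additive.ofMul (α q x)) = a * e (Additive.ofMul x)) ∧
            ∀ a : GaloisField p n, a ≠ 0 → ∃ q : Q, ∀ x : E,
              e (Additive.ofMul (α q x)) = a * e (Additive.ofMul x)))) := by
  classical
  have hn0 : n ≠ 0 := by omega
  have hcomm : ∀ (q : Q) (c : (ZMod p)ˣ), Commute (α q) (powAut hexp c) := fun q c =>
    MulEquiv.ext fun x => map_pow (α q) x _
  let hom := α.noncommCoprod (powAut hexp) hcomm
  set L : Subgroup (MulAut E) := hom.range with hLdef
  haveI : Group.IsSolvable L := Group.isSolvable_of_surjective hom.rangeRestrict_surjective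
  have hαL : ∀ q, α q ∈ L := fun q => ⟨(q, 1), by simp [hom]⟩
  have hsL : (powAut (p := p) hexp).range ≤ L := by
    rintro _ ⟨c, rfl⟩
    exact ⟨(1, c), by simp [hom]⟩
  -- a vector
  haveI : Nontrivial E := Finite.one_lt_card_iff_nontrivial.1
    (by rw [hcard]; exact Nat.one_lt_pow hn0 hp.out.one_lt)
  obtain ⟨x₀, hx₀⟩ := exists_ne (1 : E)
  -- planes
  have hne : Nonempty (Planes E p) := by
    obtain ⟨y, hy⟩ : ∃ y, y ∉ zpowers x₀ := by
      by_contra hc
      push Not at hc
      have h1 : zpowers x₀ = ⊤ := eq_top_iff.2 fun y _ => hc y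
      have h2 := Nat.card_zpowers x₀
      rw [h1, Subgroup.card_top, hcard, orderOf_eq_prime (hexp x₀) hx₀] at h2
      have := Nat.pow_right_injective hp.out.two_le (h2.trans (pow_one p).symm)
      omega
    exact ⟨⟨_, card_sup_zpowers hexp hx₀ hy⟩⟩
  have hK : (p - 1) * Nat.card (Planes E p) ∣ Nat.card L := by
    refine planes_dvd_card L _ hsL ?_ ?_ (fun U V hU hV => ?_) hne
    · rw [Nat.card_congr (MonoidHom.ofInjective (powAut_injective hexp hx₀)).toEquiv.symm,
        Nat.card_units, Nat.card_zmod]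
    · rintro _ ⟨c, rfl⟩ U _
      exact map_powAut_eq hexp c U
    · obtain ⟨q, hq⟩ := htr U V (hU.trans hV.symm)
      exact ⟨_, hαL q, hq⟩
  have hKc := card_planes_mul hexp hcard
  -- the linear representation
  have hp0 : ∀ a : Additive E, p • a = 0 := fun a => congrArg Additive.ofMul (hexp a.toMul)
  obtain ⟨hmod⟩ : Nonempty (Module (ZMod p) (Additive E)) := ⟨AddCommGroup.zmodModule hp0⟩
  haveI : Nontrivial (Additive E) := Additive.ofMul.symm.nontrivial
  haveI : Finite (Additive E) := Finite.of_equiv E Additive.ofMul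
  let ρ : L →* (Additive E ≃ₗ[ZMod p] Additive E) := toLinHom (p := p) L
  have hρ : Function.Injective ρ := fun g g' h =>
    Subtype.ext (MulEquiv.ext fun x => DFunLike.congr_fun h (Additive.ofMul x))
  have htrV : ∀ v w : Additive E, v ≠ 0 → w ≠ 0 → ∃ g : L, ρ g v = w := by
    intro v w hv hw
    set v' := Additive.toMul v with hv'
    set w' := Additive.toMul w with hw'
    have hv1 : v' ≠ 1 := fun h => hv (toMul_eq_one.1 h)
    have hw1 : w' ≠ 1 := fun h => hw (toMul_eq_one.1 h)
    obtain ⟨q, hq⟩ := htr (zpowers v') (zpowers w') (by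
      rw [Nat.card_zpowers, Nat.card_zpowers, orderOf_eq_prime (hexp v') hv1,
        orderOf_eq_prime (hexp w') hw1])
    have hmem : α q v' ∈ zpowers w' := by rw [← hq]; exact ⟨v', mem_zpowers v', rfl⟩
    rw [← mem_powers_iff_mem_zpowers] at hmem
    obtain ⟨j, hj⟩ := hmem
    have hj0 : (j : ZMod p) ≠ 0 := fun h => hv1 ((α q).injective (by
      rw [map_one, ← hj]
      show w' ^ j = 1
      rw [← pow_zero w']
      exact pow_eq_of_cast_eq hexp w' (by rw [h, Nat.cast_zero])))
    refine ⟨⟨α q * powAut hexp (Units.mk0 _ hj0)⁻¹, mul_mem (hαL q) (hsL ⟨_, rfl⟩)⟩, ?_⟩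
    apply Additive.toMul.injective
    show α q (v' ^ _) = w'
    rw [map_pow, ← hj]
    show (w' ^ j) ^ _ = w'
    rw [← pow_mul]
    conv_rhs => rw [← pow_one w']
    refine pow_eq_of_cast_eq hexp w' ?_
    simp [mul_inv_cancel₀ hj0]
  have hcA : Nat.card (Additive E) = p ^ n := (Nat.card_congr Additive.toMul).trans hcard
  rcases Char.solvable_transitive_linear ρ hρ htrV with ⟨F₀, iF, iFt, e₀, he₀⟩ | hexc
  swap
  · exfalso
    rw [hcA] at hexc
    have hdec := exc_cases hp.out hn hexc
    obtain ⟨hp3, hn4⟩ := hdec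
    have h130 : Nat.card (Planes E p) = 130 := by
      have hh := hKc
      simp only [hp3, hn4] at hh ⊢
      norm_num at hh
      omega
    rw [h130, hp3] at hK
    exact not_five_thirteen (fun x => by have := hexp x; rwa [hp3] at this)
      (by rw [hcard, hp3, hn4]) L (dvd_trans (by norm_num) hK)
  -- move to the standard field
  haveI := iFt
  haveI : Fintype (GaloisField p n) := Fintype.ofFinite _
  have hcF : Nat.card F₀ = p ^ n := by rw [← Nat.card_congr e₀.toEquiv, hcA]
  let τ : F₀ ≃+* GaloisField p n := FiniteField.ringEquivOfCardEq (by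
    rw [← Nat.card_eq_fintype_card, ← Nat.card_eq_fintype_card, hcF, GaloisField.card p n hn0])
  let e : Additive E ≃+ GaloisField p n := e₀.trans τ.toAddEquiv
  have hsl : ∀ g ∈ L, SLin e g := by
    intro g hg
    obtain ⟨a, σ, h⟩ := he₀ ⟨g, hg⟩
    refine slin_of e (a := τ a) (σ := (τ.symm.trans σ).trans τ) fun x => ?_
    have := congrArg τ (h (Additive.ofMul x))
    rw [map_mul] at this
    rw [show e (Additive.ofMul (g x)) = τ (e₀ (Additive.ofMul (g x))) from rfl]
    refine this.trans (congrArg (τ a * ·) ?_)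
    simp [e]
  have hcK := card_dvd_semilinear e L hsl
  have hcardF : Nat.card (GaloisField p n) = p ^ n := GaloisField.card p n hn0
  rw [Nat.card_units, hcardF, card_galoisAut p hcardF] at hcK
  have hdim := dim_cases hp.out hn (hK.trans hcK) hKc
  refine ⟨hdim, e, fun q => hsl _ (hαL q), fun hp2 => ?_⟩
  subst hp2
  -- for `p = 2` the group is the whole image of `Q`
  have hLeq : ∀ g ∈ L, ∃ q, α q = g := by
    rintro _ ⟨⟨q, c⟩, rfl⟩
    refine ⟨q, ?_⟩
    show α q = α q * powAut hexp c
    rw [show c = 1 from Subsingleton.elim _ _, map_one, mul_one]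
  have hcases : Nat.card L = (2 ^ n - 1) * n ∨ (n = 3 ∧ Nat.card L = 7) := by
    have hpos : 0 < Nat.card L := Nat.card_pos
    rcases hdim with rfl | ⟨rfl, -⟩
    · have h7 : Nat.card (Planes E 2) = 7 := by
        have := hKc
        norm_num at this
        omega
      rw [h7] at hK
      norm_num at hK hcK ⊢
      have := Nat.le_of_dvd (by norm_num) hcK
      obtain ⟨c, hc⟩ := hK
      have : c ≤ 3 := by omega
      interval_cases c <;> simp_all
    · have h155 : Nat.card (Planes E 2) = 155 := by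
        have := hKc
        norm_num at this
        omega
      rw [h155] at hK
      norm_num at hK hcK ⊢
      exact Nat.dvd_antisymm hcK hK
  have hex : ∀ (a : GaloisField 2 n) (ha : a ≠ 0) (σ : GaloisField 2 n ≃+* GaloisField 2 n)
      (g : L), pairMap e L hsl g = (Units.mk0 a ha, σ) →
      ∃ q : Q, ∀ x : E, e (Additive.ofMul (α q x)) = a * σ (e (Additive.ofMul x)) := by
    intro a ha σ g hg
    obtain ⟨q, hq⟩ := hLeq g g.2
    refine ⟨q, fun x => ?_⟩
    rw [hq, pairMap_spec e L hsl g x, hg]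
    rfl
  rcases hcases with hfull | ⟨rfl, h7⟩
  · refine Or.inl fun a ha σ => ?_
    haveI : Finite (GaloisField 2 n ≃+* GaloisField 2 n) := Finite.of_injective _ DFunLike.coe_injective
    have hbij : Function.Bijective (pairMap e L hsl) := by
      refine (Nat.bijective_iff_injective_and_card _).2 ⟨pairMap_injective e L hsl, ?_⟩
      rw [Nat.card_prod, Nat.card_units, hcardF, card_galoisAut 2 hcardF, hfull]
    obtain ⟨g, hg⟩ := hbij.2 (Units.mk0 a ha, σ)
    exact hex a ha σ g hg
  · right
    have hsig : ∀ g : L, (pairMap e L hsl g).2 = 1 := fun g => by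
      show sigHom e L hsl g = 1
      rw [← orderOf_eq_one_iff]
      refine Nat.eq_one_of_dvd_coprimes (show Nat.Coprime 7 3 by norm_num) ?_ ?_
      · exact (orderOf_map_dvd _ g).trans (h7 ▸ orderOf_dvd_natCard g)
      · have := orderOf_dvd_natCard (sigHom e L hsl g)
        rwa [card_galoisAut 2 hcardF] at this
    refine ⟨rfl, fun q => ⟨((pairMap e L hsl ⟨α q, hαL q⟩).1 : GaloisField 2 3), fun x => ?_⟩, fun a ha => ?_⟩
    · have := pairMap_spec e L hsl ⟨α q, hαL q⟩ x
      rw [hsig] at this
      exact this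
    · have hbij : Function.Bijective fun g : L => (pairMap e L hsl g).1 := by
        refine (Nat.bijective_iff_injective_and_card _).2 ⟨fun g g' h => ?_, ?_⟩
        · exact pairMap_injective e L hsl (Prod.ext h ((hsig g).trans (hsig g').symm))
        · rw [Nat.card_units, hcardF, h7]; norm_num
      obtain ⟨g, hg⟩ := hbij.2 (Units.mk0 a ha)
      obtain ⟨q, hq⟩ := hex a ha 1 g (Prod.ext hg (hsig g))
      exact ⟨q, hq⟩

end CfsgLib.EqualOrder
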