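import Cfsg.Agent.Lib.EqualOrder.SylowShape
import Cfsg.Agent.Lib.Invol.BrauerSuzuki
import Cfsg.Agent.Lib.Invol.ThreePoint
import Cfsg.Agent.Lib.Coprime.Core
import Mathlib.GroupTheory.Sylow

/-!
In a finite group in which `p`-subgroups of equal order are conjugate, no Sylow subgroup is
extraspecial of order `p ^ 3` and exponent `p`.
-/

set_option autoImplicit false
set_option linter.unusedSectionVars false

namespace CfsgLib.EqualOrder

open Subgroup

universe u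

variable {G : Type u} [Group G] [Finite G]

/-- Equal order `p`-subgroups are conjugate, for every prime. -/
def ConjByOrder (G : Type u) [Group G] : Prop :=
  ∀ p : ℕ, p.Prime → ∀ H K : Subgroup G, IsPGroup p H → IsPGroup p K → Nat.card H = Nat.card K →
    ∃ g : G, K = H.map (MulAut.conj g).toMonoidHom

theorem sylow_shape (hD : ConjByOrder G) {p : ℕ} [hp : Fact p.Prime] (P : Sylow p G) :
    IsCyclic P ∨ ((∀ a b : (P : Subgroup G), a * b = b * a) ∧ ∀ x : (P : Subgroup G), x ^ p = 1) ∨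
      Nonempty ((P : Subgroup G) ≃* QuaternionGroup 2) ∨
      (p ≠ 2 ∧ (∀ x : (P : Subgroup G), x ^ p = 1) ∧ Nat.card (P : Subgroup G) = p ^ 3 ∧
        Nat.card (center (P : Subgroup G)) = p) := by
  refine shape P.isPGroup' fun H K hHK => ?_
  let f := (P : Subgroup G).subtype
  have hf : Function.Injective f := (P : Subgroup G).subtype_injective
  have eH := H.equivMapOfInjective f hf
  have eK := K.equivMapOfInjective f hf
  have pH : IsPGroup p (H.map f) := (P.isPGroup'.to_subgroup H).map f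
  have pK : IsPGroup p (K.map f) := (P.isPGroup'.to_subgroup K).map f
  obtain ⟨g, hg⟩ := hD p hp.out _ _ pH pK
    (by rw [← Nat.card_congr eH.toEquiv, ← Nat.card_congr eK.toEquiv, hHK])
  exact ⟨(eH.trans (((H.map f).equivMapOfInjective _ (MulAut.conj g).injective).trans
    (MulEquiv.subgroupCongr hg.symm))).trans eK.symm⟩

/-- A normal subgroup of odd order, or one containing all elements of order `p`, cannot contain a
`2`-power-twisting element. -/
theorem no_odd_twist {w c d : G} (hd : w * c * w⁻¹ = d⁻¹) (hc : w * d * w⁻¹ = c)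
    (hout : d⁻¹ ≠ c ∧ d⁻¹ ≠ c⁻¹) (hw : Odd (orderOf w)) : False := by
  obtain ⟨k, hk⟩ := hw
  have hstep : w ^ 2 * c * (w ^ 2)⁻¹ = c⁻¹ := by
    rw [pow_two, show w * w * c * (w * w)⁻¹ = w * (w * c * w⁻¹) * w⁻¹ by group, hd,
      show w * d⁻¹ * w⁻¹ = (w * d * w⁻¹)⁻¹ by group, hc]
  have key : ∀ n : ℕ, (w ^ 2) ^ n * c * ((w ^ 2) ^ n)⁻¹ = c ∨ (w ^ 2) ^ n * c * ((w ^ 2) ^ n)⁻¹ = c⁻¹ := by
    intro n
    induction n with
    | zero => left; simp
    | succ n ih =>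
      rw [pow_succ', mul_inv_rev,
        show w ^ 2 * (w ^ 2) ^ n * c * (((w ^ 2) ^ n)⁻¹ * (w ^ 2)⁻¹) =
          w ^ 2 * ((w ^ 2) ^ n * c * ((w ^ 2) ^ n)⁻¹) * (w ^ 2)⁻¹ by group]
      rcases ih with e | e <;> rw [e]
      · exact Or.inr hstep
      · left
        rw [show w ^ 2 * c⁻¹ * (w ^ 2)⁻¹ = (w ^ 2 * c * (w ^ 2)⁻¹)⁻¹ by group, hstep, inv_inv]
  have hwk : (w ^ 2) ^ (k + 1) = w := by
    rw [← pow_mul, show 2 * (k + 1) = (2 * k + 1) + 1 by ring, pow_succ, ← hk, pow_orderOf_eq_one, one_mul]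
  have := key (k + 1)
  rw [hwk, hd] at this
  exact this.elim hout.1 hout.2

theorem no_extraspecial (hD : ConjByOrder G) {p : ℕ} [hp : Fact p.Prime] (hp2 : p ≠ 2) (P : Sylow p G)
    (hexp : ∀ x : (P : Subgroup G), x ^ p = 1) (hP : Nat.card (P : Subgroup G) = p ^ 3)
    (hPZ : Nat.card (center (P : Subgroup G)) = p) : False := by
  set Z : Subgroup G := (center (P : Subgroup G)).map (P : Subgroup G).subtype with hZ
  have hZP : Z ≤ (P : Subgroup G) := map_subtype_le _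
  have hZcard : Nat.card Z = p := by
    rw [hZ, ← Nat.card_congr ((center (P : Subgroup G)).equivMapOfInjective _
      (P : Subgroup G).subtype_injective).toEquiv, hPZ]
  have hmemZ : ∀ a ∈ (P : Subgroup G), (∀ b ∈ (P : Subgroup G), a * b = b * a) → a ∈ Z := fun a ha h =>
    ⟨⟨a, ha⟩, mem_center_iff.2 fun b => Subtype.ext (h b b.2).symm, rfl⟩
  have hZc : ∀ z ∈ Z, ∀ a ∈ (P : Subgroup G), a * z = z * a := by
    rintro _ ⟨z, hz, rfl⟩ a ha
    exact congrArg Subtype.val (mem_center_iff.1 hz ⟨a, ha⟩)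
  have hcP : ∀ a ∈ (P : Subgroup G), ∀ b ∈ (P : Subgroup G), a * b * a⁻¹ * b⁻¹ ∈ Z := by
    intro a ha b hb
    have hq : Nat.card ((P : Subgroup G) ⧸ center (P : Subgroup G)) = p ^ 2 := by
      have := (center (P : Subgroup G)).card_eq_card_quotient_mul_card_subgroup
      rw [hP, hPZ, pow_succ] at this
      exact (Nat.eq_of_mul_eq_mul_right hp.out.pos this).symm
    refine ⟨⟨a, ha⟩ * ⟨b, hb⟩ * (⟨a, ha⟩)⁻¹ * (⟨b, hb⟩)⁻¹, ?_, rfl⟩
    show _ ∈ center (P : Subgroup G)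
    rw [← QuotientGroup.eq_one_iff]
    simp only [QuotientGroup.mk_mul, QuotientGroup.mk_inv]
    rw [IsPGroup.commutative_of_card_eq_prime_sq hq (⟨a, ha⟩ : (P : Subgroup G))
      (⟨b, hb⟩ : (P : Subgroup G))]
    group
  have hord : ∀ {a : G}, a ∈ (P : Subgroup G) → a ≠ 1 → orderOf a = p := fun {a} ha h1 =>
    orderOf_eq_prime (congrArg Subtype.val (hexp ⟨a, ha⟩)) h1
  have hgen : ∀ {z : G}, z ∈ Z → z ≠ 1 → ∀ y ∈ Z, y ∈ zpowers z := fun {z} hz h1 y hy => by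
    have e : zpowers z = Z := eq_of_le_of_card_ge (zpowers_le.2 hz)
      (le_of_eq (by rw [hZcard, Nat.card_zpowers, hord (hZP hz) h1]))
    rwa [e]
  obtain ⟨c₀, hc₀, hc₀1⟩ : ∃ c₀ ∈ Z, c₀ ≠ 1 := by
    by_contra h
    simp only [not_exists, not_and, not_not] at h
    have : Z = ⊥ := (eq_bot_iff_forall _).2 h
    rw [this, card_bot] at hZcard
    exact hp.out.ne_one hZcard.symm
  obtain ⟨x, hxP, hxZ⟩ : ∃ x ∈ (P : Subgroup G), x ∉ Z := by
    by_contra h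
    simp only [not_exists, not_and, not_not] at h
    have := Subgroup.card_le_of_le (h : (P : Subgroup G) ≤ Z)
    rw [hP, hZcard] at this
    nlinarith [hp.out.one_lt, Nat.pow_lt_pow_right hp.out.one_lt (show 1 < 3 by norm_num), pow_one p]
  have hx1 : x ≠ 1 := fun e => hxZ (e ▸ one_mem _)
  -- planes
  have hplane : ∀ {a : G}, a ∈ (P : Subgroup G) → a ∉ Z → ∃ V : Subgroup G, Z ≤ V ∧ a ∈ V ∧
      V ≤ (P : Subgroup G) ∧ Nat.card V = p ^ 2 := by
    intro a ha haZ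
    have ha1 : a ≠ 1 := fun e => haZ (e ▸ one_mem _)
    obtain ⟨V, hZV, haV, hVc, hVm⟩ := exists_product Z (zpowers a)
      (fun z hz b hb => ((hZc z hz b (zpowers_le.2 ha hb)).symm : z * b = b * z))
      (disjoint_zpowers_prime (hord ha ha1) haZ)
    refine ⟨V, hZV, haV (mem_zpowers a), fun v hv => ?_, by
      rw [hVc, hZcard, Nat.card_zpowers, hord ha ha1, pow_two]⟩
    obtain ⟨z, hz, b, hb, rfl⟩ := hVm v hv
    exact mul_mem (hZP hz) (zpowers_le.2 ha hb)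
  obtain ⟨V, hZV, hxV, hVP, hVc⟩ := hplane hxP hxZ
  have hVcomm : ∀ a ∈ V, ∀ b ∈ V, a * b = b * a := fun a ha b hb => congrArg Subtype.val
    (IsPGroup.commutative_of_card_eq_prime_sq hVc (⟨a, ha⟩ : V) ⟨b, hb⟩)
  have hPnab : ∀ W : Subgroup G, Nat.card W = p ^ 2 → W ≤ (P : Subgroup G) → Z ≤ W := by
    intro W hWc hWP
    by_contra hZW
    have hd : Disjoint W (zpowers c₀) := disjoint_zpowers_prime (hord (hZP hc₀) hc₀1) fun h =>
      hZW fun y hy => zpowers_le.2 h (hgen hc₀ hc₀1 y hy)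
    obtain ⟨E, -, -, hEc, hEm⟩ := exists_product W (zpowers c₀)
      (fun a ha b hb => (hZc b (zpowers_le.2 hc₀ hb) a (hWP ha) : a * b = b * a)) hd
    have hEP : E = (P : Subgroup G) := by
      refine eq_of_le_of_card_ge (fun e he => ?_)
        (by rw [hEc, hWc, Nat.card_zpowers, hord (hZP hc₀) hc₀1, hP, pow_succ p 2])
      obtain ⟨a, ha, b, hb, rfl⟩ := hEm e he
      exact mul_mem (hWP ha) (hZP (zpowers_le.2 hc₀ hb))
    refine hxZ (hmemZ x hxP fun y hy => ?_)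
    obtain ⟨a, ha, b, hb, e⟩ := hEm x (hEP ▸ hxP)
    obtain ⟨a', ha', b', hb', e'⟩ := hEm y (hEP ▸ hy)
    have hbZ := zpowers_le.2 hc₀ hb
    have hbZ' := zpowers_le.2 hc₀ hb'
    have h1 : a * a' = a' * a := congrArg Subtype.val
      (IsPGroup.commutative_of_card_eq_prime_sq hWc (⟨a, ha⟩ : W) ⟨a', ha'⟩)
    rw [e, e']
    have c1 : Commute a a' := h1
    have c2 : Commute a b' := hZc b' hbZ' a (hWP ha)
    have c3 : Commute a' b := hZc b hbZ a' (hWP ha')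
    have c4 : Commute b b' := hZc b' hbZ' b (hZP hbZ)
    exact ((c1.mul_right c2).mul_left (c3.symm.mul_right c4)).eq
  have hVn : ∀ a ∈ (P : Subgroup G), ∀ b ∈ V, a * b * a⁻¹ ∈ V := fun a ha b hb => by
    have := mul_mem (hZV (hcP a ha b (hVP hb))) hb
    rwa [inv_mul_cancel_right] at this
  -- an element of `N(V)` moving the centre
  obtain ⟨h, hhV, hhV', hhc⟩ : ∃ h : G, (∀ b ∈ V, h * b * h⁻¹ ∈ V) ∧ (∀ b ∈ V, h⁻¹ * b * h ∈ V) ∧
      h * c₀ * h⁻¹ ∉ Z := by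
    by_contra hno
    simp only [not_exists, not_and, not_not] at hno
    have hnZ : ∀ n : G, (∀ b ∈ V, n * b * n⁻¹ ∈ V) → (∀ b ∈ V, n⁻¹ * b * n ∈ V) →
        ∀ z ∈ Z, n * z * n⁻¹ ∈ Z := fun n h1 h2 z hz => by
      obtain ⟨i, rfl⟩ := mem_zpowers_iff.1 (hgen hc₀ hc₀1 z hz)
      rw [← conj_zpow]
      exact zpow_mem (hno n h1 h2) i
    -- move `x` into the centre
    obtain ⟨g, hg⟩ := hD p hp.out (zpowers x) Z
      (IsPGroup.of_card (n := 1) (by rw [Nat.card_zpowers, hord hxP hx1, pow_one]))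
      (IsPGroup.of_card (n := 1) (by rw [hZcard, pow_one]))
      (by rw [Nat.card_zpowers, hord hxP hx1, hZcard])
    have hgx : g * x * g⁻¹ ∈ Z := hg.symm ▸ mem_map_of_mem _ (mem_zpowers x)
    set C : Subgroup G := centralizer (Z : Set G)
    have hPC : (P : Subgroup G) ≤ C := fun a ha => mem_centralizer_iff.2 fun z hz => (hZc z hz a ha).symm
    set U : Subgroup G := V.map (MulAut.conj g).toMonoidHom with hU
    have hUC : U ≤ C := by
      rintro _ ⟨v, hv, rfl⟩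
      refine mem_centralizer_iff.2 fun z hz => ?_
      rw [hg] at hz
      obtain ⟨y, hy, rfl⟩ := hz
      show (MulAut.conj g) y * (MulAut.conj g) v = (MulAut.conj g) v * (MulAut.conj g) y
      rw [← map_mul, ← map_mul, hVcomm y (zpowers_le.2 hxV hy) v hv]
    have hVp : IsPGroup p V := IsPGroup.of_card hVc
    obtain ⟨S, hS⟩ := ((hVp.map _).comap_subtype (K := C) : IsPGroup p (U.subgroupOf C)).exists_le_sylow
    obtain ⟨k, hk⟩ := MulAction.exists_smul_eq C S (P.subtype hPC)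
    have hkU : ∀ a ∈ U, (k : G) * a * (k : G)⁻¹ ∈ (P : Subgroup G) := by
      intro a ha
      have h1 : k * ⟨a, hUC ha⟩ * k⁻¹ ∈ (k • S : Sylow p C) :=
        Subgroup.smul_mem_pointwise_smul (⟨a, hUC ha⟩ : C) (MulAut.conj k) (S : Subgroup C) (hS ha)
      rw [hk] at h1
      exact h1
    set W : Subgroup G := V.map (MulAut.conj ((k : G) * g)).toMonoidHom
    have hWP : W ≤ (P : Subgroup G) := by
      rintro _ ⟨v, hv, rfl⟩
      have := hkU _ (mem_map_of_mem (MulAut.conj g).toMonoidHom hv)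
      show (k : G) * g * v * ((k : G) * g)⁻¹ ∈ _
      rw [show (k : G) * g * v * ((k : G) * g)⁻¹ = k * (g * v * g⁻¹) * (k : G)⁻¹ by group]
      exact this
    have hWc : Nat.card W = p ^ 2 := by
      rw [← Nat.card_congr (V.equivMapOfInjective _ (MulAut.conj ((k : G) * g)).injective).toEquiv, hVc]
    have hZW := hPnab W hWc hWP
    have hWn : ∀ a ∈ (P : Subgroup G), ∀ b ∈ W, a * b * a⁻¹ ∈ W := fun a ha b hb => by
      have := mul_mem (hZW (hcP a ha b (hWP hb))) hb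
      rwa [inv_mul_cancel_right] at this
    have hkx : (k : G) * g * x * ((k : G) * g)⁻¹ ∈ Z := by
      rw [show (k : G) * g * x * ((k : G) * g)⁻¹ = k * (g * x * g⁻¹) * (k : G)⁻¹ by group,
        ← mem_centralizer_iff.1 k.2 _ hgx, mul_inv_cancel_right]
      exact hgx
    obtain ⟨h₀, hh₀⟩ := hD p hp.out W V (IsPGroup.of_card hWc) hVp (hWc.trans hVc.symm)
    have hto : ∀ b ∈ W, h₀ * b * h₀⁻¹ ∈ V := fun b hb => hh₀.symm ▸ mem_map_of_mem _ hb
    have hfrom : ∀ b ∈ V, h₀⁻¹ * b * h₀ ∈ W := by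
      intro b hb
      rw [hh₀] at hb
      obtain ⟨w, hw, rfl⟩ := hb
      show h₀⁻¹ * (h₀ * w * h₀⁻¹) * h₀ ∈ W
      rwa [show h₀⁻¹ * (h₀ * w * h₀⁻¹) * h₀ = w by group]
    set y := h₀⁻¹ * c₀ * h₀ with hy
    have hyP : y ∈ (P : Subgroup G) := hWP (hfrom _ (hZV hc₀))
    have hy1 : y ≠ 1 := fun e => hc₀1 (by
      rw [show c₀ = h₀ * y * h₀⁻¹ by rw [hy]; group, e, mul_one, mul_inv_cancel])
    have hyZ : y ∈ Z := by
      by_contra hyZ
      refine hyZ (hmemZ y hyP fun a ha => ?_)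
      have hn : ∀ a ∈ (P : Subgroup G), ∀ b ∈ V, h₀ * a * h₀⁻¹ * b * (h₀ * a * h₀⁻¹)⁻¹ ∈ V := by
        intro a ha b hb
        have := hto _ (hWn a ha _ (hfrom b hb))
        rwa [show h₀ * (a * (h₀⁻¹ * b * h₀) * a⁻¹) * h₀⁻¹ = h₀ * a * h₀⁻¹ * b * (h₀ * a * h₀⁻¹)⁻¹ by group]
          at this
      have h1 := hnZ (h₀ * a * h₀⁻¹) (hn a ha) (fun b hb => by
        have := hn a⁻¹ (inv_mem ha) b hb
        rwa [show h₀ * a⁻¹ * h₀⁻¹ * b * (h₀ * a⁻¹ * h₀⁻¹)⁻¹ = (h₀ * a * h₀⁻¹)⁻¹ * b * (h₀ * a * h₀⁻¹) by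
          group] at this) c₀ hc₀
      obtain ⟨i, hi⟩ := mem_zpowers_iff.1 (hgen hc₀ hc₀1 _ h1)
      have h2 : a * y * a⁻¹ = y ^ i := by
        have hcz : (h₀⁻¹ * c₀ * h₀⁻¹⁻¹) ^ i = h₀⁻¹ * c₀ ^ i * h₀⁻¹⁻¹ := conj_zpow
        rw [inv_inv] at hcz
        rw [hy, hcz, hi]
        group
      have h3 : a * y * a⁻¹ * y⁻¹ ∈ zpowers y := by
        rw [h2]; exact mul_mem (zpow_mem (mem_zpowers y) i) (inv_mem (mem_zpowers y))
      have h4 : a * y * a⁻¹ * y⁻¹ = 1 :=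
        (disjoint_def.1 (disjoint_zpowers_prime (hord hyP hy1) hyZ)) (hcP a ha y hyP) h3
      calc y * a = (a * y * a⁻¹ * y⁻¹) * (y * a) := by rw [h4, one_mul]
        _ = a * y := by group
    set m := h₀ * ((k : G) * g) with hm
    have hm1 : ∀ b ∈ V, m * b * m⁻¹ ∈ V := fun b hb => by
      have := hto _ (mem_map_of_mem (MulAut.conj ((k : G) * g)).toMonoidHom hb)
      rw [hm, show h₀ * ((k : G) * g) * b * (h₀ * ((k : G) * g))⁻¹ =
        h₀ * ((k : G) * g * b * ((k : G) * g)⁻¹) * h₀⁻¹ by group]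
      exact this
    have hm2 : ∀ b ∈ V, m⁻¹ * b * m ∈ V := fun b hb => by
      obtain ⟨v, hv, e⟩ := hfrom b hb
      have e' : (k : G) * g * v * ((k : G) * g)⁻¹ = h₀⁻¹ * b * h₀ := e
      rw [hm, show (h₀ * ((k : G) * g))⁻¹ * b * (h₀ * ((k : G) * g)) =
        ((k : G) * g)⁻¹ * (h₀⁻¹ * b * h₀) * ((k : G) * g) by group, ← e',
        show ((k : G) * g)⁻¹ * ((k : G) * g * v * ((k : G) * g)⁻¹) * ((k : G) * g) = v by group]
      exact hv
    have hmx : m * x * m⁻¹ ∈ Z := by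
      obtain ⟨i, hi⟩ := mem_zpowers_iff.1 (hgen hyZ hy1 _ hkx)
      rw [hm, show h₀ * ((k : G) * g) * x * (h₀ * ((k : G) * g))⁻¹ =
        h₀ * ((k : G) * g * x * ((k : G) * g)⁻¹) * h₀⁻¹ by group, ← hi, ← conj_zpow,
        show h₀ * y * h₀⁻¹ = c₀ by rw [hy]; group]
      exact zpow_mem hc₀ i
    have := hnZ m⁻¹ (by simpa using hm2) (by simpa using hm1) _ hmx
    rw [show m⁻¹ * (m * x * m⁻¹) * m⁻¹⁻¹ = x by group] at this
    exact hxZ this
  set d := h * c₀ * h⁻¹ with hd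
  have hdV : d ∈ V := hhV _ (hZV hc₀)
  have hd1 : d ≠ 1 := fun e => hhc (e ▸ one_mem _)
  have hdisj : Disjoint Z (zpowers d) := disjoint_zpowers_prime (hord (hVP hdV) hd1) hhc
  obtain ⟨u, huP, hud⟩ : ∃ u ∈ (P : Subgroup G), u * d ≠ d * u := by
    by_contra hu
    simp only [not_exists, not_and, ne_eq, not_not] at hu
    exact hhc (hmemZ d (hVP hdV) fun b hb => (hu b hb).symm)
  set c := u * d * u⁻¹ * d⁻¹ with hc
  have hcZ : c ∈ Z := hcP u huP d (hVP hdV)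
  have hc1 : c ≠ 1 := fun e => hud (by
    calc u * d = c * (d * u) := by rw [hc]; group
      _ = d * u := by rw [e, one_mul])
  have huc : u * c * u⁻¹ = c := by rw [hZc c hcZ u huP, mul_inv_cancel_right]
  have hudc : u * d * u⁻¹ = c * d := by rw [hc]; group
  -- the commutator of `u` with the preimage of `c`
  set c' := h⁻¹ * c * h with hc'
  have hc'V : c' ∈ V := hhV' _ (hZV hcZ)
  have hzmap : ∀ z ∈ Z, h * z * h⁻¹ ∈ zpowers d := fun z hz => by
    obtain ⟨i, rfl⟩ := mem_zpowers_iff.1 (hgen hc₀ hc₀1 z hz)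
    rw [← conj_zpow]
    exact zpow_mem (mem_zpowers d) i
  have hc'Z : c' ∉ Z := fun hz => hc1 ((disjoint_def.1 hdisj) hcZ (by
    have := hzmap _ hz
    rwa [show h * c' * h⁻¹ = c by rw [hc']; group] at this))
  set z := u * c' * u⁻¹ * c'⁻¹ with hz
  have hzZ : z ∈ Z := hcP u huP c' (hVP hc'V)
  have hz1 : z ≠ 1 := by
    intro e
    refine hud ?_
    have hcu : Commute u c' := by
      calc u * c' = z * (c' * u) := by rw [hz]; group
        _ = c' * u := by rw [e, one_mul]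
    obtain ⟨E, hZE, hcE, hEc, hEm⟩ := exists_product Z (zpowers c')
      (fun a ha b hb => (hZc a ha b (zpowers_le.2 (hVP hc'V) hb)).symm)
      (disjoint_zpowers_prime (hord (hVP hc'V) fun e1 => hc'Z (e1 ▸ one_mem _)) hc'Z)
    have hEV : E = V := eq_of_le_of_card_ge (fun e he => by
      obtain ⟨a, ha, b, hb, rfl⟩ := hEm e he
      exact mul_mem (hZV ha) (zpowers_le.2 hc'V hb))
      (le_of_eq (by rw [hEc, hVc, hZcard, Nat.card_zpowers,
        hord (hVP hc'V) fun e1 => hc'Z (e1 ▸ one_mem _), pow_two]))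
    obtain ⟨a, ha, b, hb, e'⟩ := hEm d (hEV.symm ▸ hdV)
    obtain ⟨i, rfl⟩ := mem_zpowers_iff.1 hb
    rw [e']
    have c1 : Commute u a := hZc a ha u huP
    exact (c1.mul_right (hcu.zpow_right i)).eq
  obtain ⟨i, hi⟩ : ∃ i : ℕ, z ^ i = c₀⁻¹ := by
    have := hgen hzZ hz1 c₀⁻¹ (inv_mem hc₀)
    rwa [← mem_powers_iff_mem_zpowers] at this
  set v₁ := h * u * h⁻¹ with hv₁
  set e₁ := h * z * h⁻¹ with he₁
  have hv₁c : v₁ * c * v₁⁻¹ = e₁ * c := by rw [hv₁, he₁, hz, hc']; group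
  have hv₁e : v₁ * e₁ * v₁⁻¹ = e₁ := by
    rw [hv₁, he₁, show h * u * h⁻¹ * (h * z * h⁻¹) * (h * u * h⁻¹)⁻¹ = h * (u * z * u⁻¹) * h⁻¹ by group,
      hZc z hzZ u huP, mul_inv_cancel_right]
  have hpow : ∀ n : ℕ, v₁ ^ n * c * (v₁ ^ n)⁻¹ = e₁ ^ n * c := by
    intro n
    induction n with
    | zero => simp
    | succ n ih =>
      rw [pow_succ', mul_inv_rev, show v₁ * v₁ ^ n * c * ((v₁ ^ n)⁻¹ * v₁⁻¹) =
        v₁ * (v₁ ^ n * c * (v₁ ^ n)⁻¹) * v₁⁻¹ by group, ih,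
        show v₁ * (e₁ ^ n * c) * v₁⁻¹ = (v₁ * e₁ ^ n * v₁⁻¹) * (v₁ * c * v₁⁻¹) by group, ← conj_pow,
        hv₁e, hv₁c, ← mul_assoc, ← pow_succ]
  set v := v₁ ^ i with hv
  have hvc : v * c * v⁻¹ = d⁻¹ * c := by
    rw [hv, hpow i, he₁, conj_pow, hi, hd]; group
  have hvd : v * d * v⁻¹ = d := by
    have : Commute v₁ d := by
      show v₁ * d = d * v₁
      rw [hv₁, hd, show h * u * h⁻¹ * (h * c₀ * h⁻¹) = h * (u * c₀) * h⁻¹ by group, hZc c₀ hc₀ u huP]
      group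
    rw [hv, (this.pow_left i).eq, mul_inv_cancel_right]
  have hdc : c * d = d * c := (hZc c hcZ d (hVP hdV)).symm
  set w := u * v * u with hw
  have hwc : w * c * w⁻¹ = d⁻¹ := by
    calc w * c * w⁻¹ = u * (v * (u * c * u⁻¹) * v⁻¹) * u⁻¹ := by rw [hw]; group
      _ = (u * d * u⁻¹)⁻¹ * (u * c * u⁻¹) := by rw [huc, hvc]; nth_rewrite 2 [huc.symm]; group
      _ = d⁻¹ := by rw [huc, hudc]; group
  have hwd : w * d * w⁻¹ = c := by
    calc w * d * w⁻¹ = u * (v * (u * d * u⁻¹) * v⁻¹) * u⁻¹ := by rw [hw]; group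
      _ = u * ((v * c * v⁻¹) * (v * d * v⁻¹)) * u⁻¹ := by rw [hudc]; group
      _ = c := by rw [hvc, hvd, show d⁻¹ * c * d = c by rw [mul_assoc, hdc, inv_mul_cancel_left], huc]
  have hdout : ∀ a ∈ Z, d⁻¹ ≠ a := fun a ha e => hhc (by rw [← inv_inv d, e]; exact inv_mem ha)
  have hu1 : u ^ p = 1 := congrArg Subtype.val (hexp ⟨u, huP⟩)
  have hv1 : v ^ p = 1 := by
    rw [hv, ← pow_mul, mul_comm, pow_mul, hv₁, conj_pow, hu1]; simp
  -- no normal subgroup of odd order contains all elements of order `p`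
  have hodd : ∀ O : Subgroup G, Odd (Nat.card O) → (∀ a : G, a ^ p = 1 → a ∈ O) → False := by
    intro O hO hall
    refine no_odd_twist hwc hwd ⟨hdout c hcZ, hdout c⁻¹ (inv_mem hcZ)⟩ (hO.of_dvd_nat ?_)
    have hwO : w ∈ O := mul_mem (mul_mem (hall u hu1) (hall v hv1)) (hall u hu1)
    rw [← Subgroup.orderOf_mk (H := O) w hwO]
    exact orderOf_dvd_natCard _
  haveI : Fact (Nat.Prime 2) := ⟨Nat.prime_two⟩
  have hpodd : Odd p := hp.out.odd_of_ne_two hp2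
  obtain ⟨a, b, hb, hab⟩ := Nat.exists_eq_pow_mul_and_not_dvd (orderOf_pos w).ne' 2 (by norm_num)
  have hwb : IsPGroup 2 (zpowers (w ^ b)) := IsPGroup.of_card (n := a) (by
    rw [Nat.card_zpowers, orderOf_pow_of_dvd (fun e => hb (by rw [e]; exact dvd_zero 2)) (hab ▸ dvd_mul_left b _), hab,
      Nat.mul_div_cancel _ (Nat.pos_of_ne_zero fun e => hb (by rw [e]; exact dvd_zero 2))])
  obtain ⟨S, hS⟩ := hwb.exists_le_sylow
  have hwS : w ^ b ∈ (S : Subgroup G) := hS (mem_zpowers _)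
  obtain ⟨j, hj⟩ : Odd b := Nat.not_even_iff_odd.1 (fun e => hb e.two_dvd)
  have hw2c : w ^ 2 * c * (w ^ 2)⁻¹ = c⁻¹ := by
    rw [pow_two, show w * w * c * (w * w)⁻¹ = w * (w * c * w⁻¹) * w⁻¹ by group, hwc,
      show w * d⁻¹ * w⁻¹ = (w * d * w⁻¹)⁻¹ by group, hwd]
  set s := (w ^ b) ^ 2 with hs
  have hsc : s * c * s⁻¹ = c⁻¹ := by
    have h4 : ∀ n : ℕ, (w ^ 2) ^ (2 * n) * c * ((w ^ 2) ^ (2 * n))⁻¹ = c := by
      intro n
      induction n with
      | zero => simp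
      | succ n ih =>
        rw [show 2 * (n + 1) = 1 + 1 + 2 * n by ring, pow_add, pow_add, pow_one, mul_inv_rev, mul_inv_rev,
          show w ^ 2 * w ^ 2 * (w ^ 2) ^ (2 * n) * c * (((w ^ 2) ^ (2 * n))⁻¹ * ((w ^ 2)⁻¹ * (w ^ 2)⁻¹)) =
            w ^ 2 * (w ^ 2 * ((w ^ 2) ^ (2 * n) * c * ((w ^ 2) ^ (2 * n))⁻¹) * (w ^ 2)⁻¹) * (w ^ 2)⁻¹ by group,
          ih, hw2c, show w ^ 2 * c⁻¹ * (w ^ 2)⁻¹ = (w ^ 2 * c * (w ^ 2)⁻¹)⁻¹ by group, hw2c, inv_inv]
    rw [hs, ← pow_mul, show b * 2 = 2 * b by ring, pow_mul, hj, pow_succ', mul_inv_rev,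
      show w ^ 2 * (w ^ 2) ^ (2 * j) * c * (((w ^ 2) ^ (2 * j))⁻¹ * (w ^ 2)⁻¹) =
        w ^ 2 * ((w ^ 2) ^ (2 * j) * c * ((w ^ 2) ^ (2 * j))⁻¹) * (w ^ 2)⁻¹ by group, h4, hw2c]
  have hcc : c⁻¹ ≠ c := by
    intro e
    have h2 : c ^ 2 = 1 := by rw [pow_two]; nth_rewrite 1 [← e]; exact inv_mul_cancel c
    have := orderOf_dvd_of_pow_eq_one h2
    rw [hord (hZP hcZ) hc1, Nat.prime_dvd_prime_iff_eq hp.out Nat.prime_two] at this
    exact hp2 this
  have hs1 : s ≠ 1 := fun e => hcc (by rw [← hsc, e]; group)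
  rcases sylow_shape hD S with hcyc | ⟨-, hel⟩ | ⟨⟨φ⟩⟩ | ⟨h2, -⟩
  · obtain ⟨T, N, hN, hcpl⟩ := CfsgLib.Invol.hasNormalPComplement_two_of_isCyclic S hcyc
    have hindex : ∃ n, N.index = 2 ^ n := by
      obtain ⟨n, hn⟩ := IsPGroup.iff_card.1 T.isPGroup'
      exact ⟨n, by rw [hcpl.symm.index_eq_card, hn]⟩
    obtain ⟨n, hn⟩ := hindex
    refine hodd N (Nat.not_even_iff_odd.1 fun e => T.not_dvd_index (hcpl.index_eq_card ▸ e.two_dvd)) fun a ha => ?_
    have h1 : a ^ N.index ∈ N := N.pow_index_mem a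
    have hco : Nat.Coprime p N.index := by
      rw [hn]; exact Nat.Coprime.pow_right _ ((Nat.coprime_primes hp.out Nat.prime_two).2 hp2)
    obtain ⟨q, hq⟩ := exists_pow_eq_self_of_coprime (hco.symm.coprime_dvd_right (orderOf_dvd_of_pow_eq_one ha))
    rw [← hq]
    exact pow_mem h1 q
  · exact hs1 (congrArg Subtype.val (hel ⟨_, hwS⟩))
  · have hq : ∀ a : QuaternionGroup 2, (a ^ 2) ^ 2 = 1 := by decide
    have hu' : ∀ a b : QuaternionGroup 2, a ^ 2 = 1 → a ≠ 1 → b ^ 2 = 1 → b ≠ 1 → a = b := by decide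
    have hsS : s ∈ (S : Subgroup G) := pow_mem hwS 2
    have hs2 : s ^ 2 = 1 := by
      have h4 : ((⟨_, hwS⟩ : (S : Subgroup G)) ^ 2) ^ 2 = 1 := φ.injective (by
        rw [map_pow, map_pow, map_one]; exact hq _)
      exact congrArg Subtype.val h4
    have hz2 := CfsgLib.Invol.zcentral_of_unique_invol S (orderOf_eq_prime hs2 hs1) fun y hy hy2 => by
      have hy' : y ^ 2 = 1 := hy2 ▸ pow_orderOf_eq_one y
      have hy1 : y ≠ 1 := fun e => by simp [e] at hy2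
      refine congrArg Subtype.val (φ.injective (hu' (φ ⟨y, hy⟩) (φ ⟨s, hsS⟩) ?_ ?_ ?_ ?_))
      · rw [← map_pow, show (⟨y, hy⟩ : (S : Subgroup G)) ^ 2 = 1 from Subtype.ext hy', map_one]
      · exact fun e => hy1 (congrArg Subtype.val (φ.injective (e.trans (map_one φ).symm)))
      · rw [← map_pow, show (⟨s, hsS⟩ : (S : Subgroup G)) ^ 2 = 1 from Subtype.ext hs2, map_one]
      · exact fun e => hs1 (congrArg Subtype.val (φ.injective (e.trans (map_one φ).symm)))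
    set O := Cfsg.pPrimeCore 2 G
    have hOn : O.Normal := inferInstance
    have hcO : c⁻¹ * c⁻¹ ∈ O := by
      have := hz2 c
      rwa [hsc] at this
    have hgo : c ∈ O := by
      have hco : Nat.Coprime 2 (orderOf c⁻¹) := by
        rw [orderOf_inv, hord (hZP hcZ) hc1]
        exact (Nat.coprime_primes Nat.prime_two hp.out).2 (Ne.symm hp2)
      obtain ⟨q, hq⟩ := exists_pow_eq_self_of_coprime hco
      rw [← inv_mem_iff, ← hq, pow_two]
      exact pow_mem hcO q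
    refine hodd O (Nat.not_even_iff_odd.1 fun e => ?_) fun a ha => ?_
    · have := CfsgLib.Coprime.pPrimeCore_coprime (G := G) Nat.prime_two
      exact Nat.not_coprime_of_dvd_of_dvd (by norm_num) e.two_dvd (dvd_refl 2) this
    · by_cases ha1 : a = 1
      · exact ha1 ▸ one_mem _
      obtain ⟨g, hg⟩ := hD p hp.out (zpowers c) (zpowers a)
        (IsPGroup.of_card (n := 1) (by rw [Nat.card_zpowers, hord (hZP hcZ) hc1, pow_one]))
        (IsPGroup.of_card (n := 1) (by rw [Nat.card_zpowers, orderOf_eq_prime ha ha1, pow_one]))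
        (by rw [Nat.card_zpowers, Nat.card_zpowers, hord (hZP hcZ) hc1, orderOf_eq_prime ha ha1])
      obtain ⟨y, hy, hay⟩ := hg ▸ mem_zpowers a
      rw [← hay]
      exact hOn.conj_mem y (zpowers_le.2 hgo hy) g
  · exact h2 rfl

end CfsgLib.EqualOrder
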