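import Cfsg.Agent.Lib.Coprime.UniqueOrderP
import Cfsg.Agent.Lib.PGroup.ElementaryBasic
import Mathlib.GroupTheory.PGroup
import Mathlib.GroupTheory.NoncommCoprod
import Mathlib.GroupTheory.SpecificGroups.Quaternion

/-!
`p`-groups in which two subgroups of equal order are isomorphic.
-/

set_option autoImplicit false
set_option linter.unusedSectionVars false

namespace CfsgLib.EqualOrder

open Subgroup

universe u

variable {Q : Type u} [Group Q]

/-- Two elementwise commuting subgroups with trivial intersection. -/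
theorem exists_product (A B : Subgroup Q) (hc : ∀ a ∈ A, ∀ b ∈ B, Commute a b) (hd : Disjoint A B) :
    ∃ E : Subgroup Q, A ≤ E ∧ B ≤ E ∧ Nat.card E = Nat.card A * Nat.card B ∧
      ∀ e ∈ E, ∃ a ∈ A, ∃ b ∈ B, e = a * b := by
  let f : A × B →* Q := MonoidHom.noncommCoprod A.subtype B.subtype fun a b => hc a a.2 b b.2
  have hf : Function.Injective f := (MonoidHom.noncommCoprod_injective _ _ _).2
    ⟨A.subtype_injective, B.subtype_injective, by rwa [A.range_subtype, B.range_subtype]⟩
  refine ⟨f.range, fun a ha => ⟨(⟨a, ha⟩, 1), mul_one a⟩,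
    fun b hb => ⟨(1, ⟨b, hb⟩), one_mul b⟩, ?_, ?_⟩
  · rw [← Nat.card_prod]
    exact (Nat.card_congr (MonoidHom.ofInjective hf).toEquiv).symm
  · rintro e ⟨⟨a, b⟩, rfl⟩
    exact ⟨a, a.2, b, b.2, rfl⟩

/-- An element of prime order outside a subgroup generates a disjoint subgroup. -/
theorem disjoint_zpowers_prime {p : ℕ} [Fact p.Prime] {A : Subgroup Q} {y : Q} (hy : orderOf y = p)
    (hyA : y ∉ A) : Disjoint A (zpowers y) := by
  rw [disjoint_iff]
  have h1 : Nat.card ↥(A ⊓ zpowers y) ∣ p := by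
    rw [← hy, ← Nat.card_zpowers]
    exact card_dvd_of_le inf_le_right
  rcases (Nat.dvd_prime Fact.out).1 h1 with h | h
  · exact Subgroup.card_eq_one.1 h
  · haveI : Finite ↥(zpowers y) := Nat.finite_of_card_ne_zero (by
      rw [Nat.card_zpowers, hy]; exact (Fact.out : p.Prime).ne_zero)
    have he : A ⊓ zpowers y = zpowers y :=
      eq_of_le_of_card_ge inf_le_right (le_of_eq (by rw [h, Nat.card_zpowers, hy]))
    exact absurd (inf_le_left (α := Subgroup Q) (a := A) (b := zpowers y) (he.symm ▸ mem_zpowers y)) hyA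

variable [Finite Q] {p : ℕ} [hp : Fact p.Prime]

/-- The quaternion group of order `4N`, `N` even and at least `4`, has two kinds of subgroups of order `8`. -/
theorem quaternion_small (hiso : ∀ H K : Subgroup Q, Nat.card H = Nat.card K → Nonempty (H ≃* K)) {n : ℕ}
    (e : Q ≃* QuaternionGroup (2 ^ n)) : n ≤ 1 := by
  by_contra hn
  obtain ⟨m, rfl⟩ : ∃ m, n = m + 2 := ⟨n - 2, by omega⟩
  set N := 2 ^ (m + 2) with hN
  haveI : NeZero N := ⟨by positivity⟩
  haveI : NeZero (2 * N) := ⟨by positivity⟩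
  set α : QuaternionGroup N := .a ((2 ^ (m + 1) : ℕ) : ZMod (2 * N)) with hα
  set γ : QuaternionGroup N := .a ((2 ^ m : ℕ) : ZMod (2 * N)) with hγ
  set β : QuaternionGroup N := .xa 0 with hβ
  have hγ8 : orderOf γ = 8 := by
    rw [hγ, QuaternionGroup.orderOf_a, ZMod.val_natCast, Nat.mod_eq_of_lt, hN,
      show 2 * 2 ^ (m + 2) = 2 ^ m * 8 by ring, Nat.gcd_mul_right_left, Nat.mul_div_cancel_left _ (by positivity)]
    rw [hN]; calc 2 ^ m < 2 ^ (m + 2) := Nat.pow_lt_pow_right (by norm_num) (by omega)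
      _ ≤ 2 * 2 ^ (m + 2) := Nat.le_mul_of_pos_left _ (by norm_num)
  have hα4 : orderOf α = 4 := by
    rw [hα, QuaternionGroup.orderOf_a, ZMod.val_natCast, Nat.mod_eq_of_lt, hN,
      show 2 * 2 ^ (m + 2) = 2 ^ (m + 1) * 4 by ring, Nat.gcd_mul_right_left, Nat.mul_div_cancel_left _ (by positivity)]
    rw [hN]; calc 2 ^ (m + 1) < 2 ^ (m + 2) := Nat.pow_lt_pow_right (by norm_num) (by omega)
      _ ≤ 2 * 2 ^ (m + 2) := Nat.le_mul_of_pos_left _ (by norm_num)
  have hββ : β * β = α * α := by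
    rw [hβ, hα, QuaternionGroup.xa_mul_xa, QuaternionGroup.a_mul_a]
    congr 1
    rw [← Nat.cast_add, hN, show 2 ^ (m + 1) + 2 ^ (m + 1) = 2 ^ (m + 2) by ring]
    simp
  have hswap : β * α = α⁻¹ * β := by
    rw [hβ, hα, eq_inv_mul_iff_mul_eq, QuaternionGroup.xa_mul_a, QuaternionGroup.a_mul_xa]
    simp
  -- a non-abelian subgroup of order eight
  set A : Subgroup (QuaternionGroup N) := zpowers α with hA
  have hβn : β ∈ normalizer (A : Set (QuaternionGroup N)) := by
    rw [mem_normalizer_iff_map_conj_eq, hA, MonoidHom.map_zpowers]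
    show zpowers (β * α * β⁻¹) = _
    rw [hswap, mul_inv_cancel_right, zpowers_inv]
  set H := A ⊔ zpowers β with hH
  have hH8 : Nat.card H = 8 := by
    have hle : zpowers β ≤ normalizer (A : Set (QuaternionGroup N)) := zpowers_le.2 hβn
    have h1 := CfsgLib.EABasic.card_sup_mul_card_inf_of_le_normalizer hle
    have hcard : Nat.card ↥(zpowers β) = 4 := by rw [Nat.card_zpowers, hβ, QuaternionGroup.orderOf_xa]
    have hinf : Nat.card ↥(A ⊓ zpowers β) = 2 := by
      have hlow : zpowers (α * α) ≤ A ⊓ zpowers β := zpowers_le.2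
        ⟨mul_mem (mem_zpowers α) (mem_zpowers α), hββ ▸ mul_mem (mem_zpowers β) (mem_zpowers β)⟩
      have h2' : Nat.card ↥(zpowers (α * α)) = 2 := by
        rw [Nat.card_zpowers, ← pow_two, orderOf_pow' α (by norm_num), hα4]; rfl
      have hdvd : Nat.card ↥(A ⊓ zpowers β) ∣ 4 := hcard ▸ card_dvd_of_le inf_le_right
      have hge := card_dvd_of_le hlow
      rw [h2'] at hge
      have hne : Nat.card ↥(A ⊓ zpowers β) ≠ 4 := by
        intro h4
        have he : A ⊓ zpowers β = zpowers β := eq_of_le_of_card_ge inf_le_right (by rw [h4, hcard])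
        have hmem : β ∈ A := (inf_le_left : A ⊓ zpowers β ≤ A) (he.symm ▸ mem_zpowers β)
        obtain ⟨k, hk⟩ := mem_zpowers_iff.1 hmem
        have hcomm : β * α = α * β := by rw [← hk]; exact (Commute.zpow_self α k).eq
        rw [hswap] at hcomm
        have hinv : α⁻¹ = α := mul_right_cancel hcomm
        have h2 : α ^ 2 = 1 := by rw [pow_two]; nth_rewrite 1 [← hinv]; exact inv_mul_cancel α
        have h4' := orderOf_dvd_of_pow_eq_one h2
        rw [hα4] at h4'
        exact absurd (Nat.le_of_dvd (by norm_num) h4') (by norm_num)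
      have := Nat.le_of_dvd (by norm_num) hdvd
      obtain ⟨r, hr⟩ := hge
      interval_cases h : Nat.card ↥(A ⊓ zpowers β) <;> omega
    rw [sup_comm, ← hH, inf_comm, hinf, hcard, show Nat.card A = 4 by rw [hA, Nat.card_zpowers, hα4]] at h1
    omega
  have hcomap : ∀ S : Subgroup (QuaternionGroup N), Nat.card (S.comap e.toMonoidHom) = Nat.card S :=
    fun S => Nat.card_congr (e.toEquiv.subtypeEquiv fun _ => Iff.rfl)
  obtain ⟨φ⟩ := hiso ((zpowers γ).comap e.toMonoidHom) (H.comap e.toMonoidHom) (by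
    rw [hcomap, hcomap, Nat.card_zpowers, hγ8, hH8])
  have hc : ∀ a b : ↥((zpowers γ).comap e.toMonoidHom), a * b = b * a := fun a b => by
    obtain ⟨i, hi⟩ := mem_zpowers_iff.1 a.2
    obtain ⟨j, hj⟩ := mem_zpowers_iff.1 b.2
    refine Subtype.ext (e.injective ?_)
    simp only [Subgroup.coe_mul, map_mul]
    change (e.toMonoidHom (a : Q)) * e.toMonoidHom (b : Q) = _
    rw [← hi, ← hj]
    show γ ^ i * γ ^ j = e.toMonoidHom (b : Q) * e.toMonoidHom (a : Q)
    rw [← hi, ← hj, ← zpow_add, ← zpow_add, add_comm]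
  have hmemα : e.symm α ∈ H.comap e.toMonoidHom := by
    show e (e.symm α) ∈ H
    rw [e.apply_symm_apply]; exact le_sup_left (b := zpowers β) (mem_zpowers α)
  have hmemβ : e.symm β ∈ H.comap e.toMonoidHom := by
    show e (e.symm β) ∈ H
    rw [e.apply_symm_apply]; exact le_sup_right (a := A) (mem_zpowers β)
  have h := hc (φ.symm ⟨_, hmemα⟩) (φ.symm ⟨_, hmemβ⟩)
  rw [← map_mul, ← map_mul] at h
  have h' : α * β = β * α := e.symm.injective (by
    rw [map_mul, map_mul]; exact congrArg Subtype.val (φ.symm.injective h))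
  rw [hswap] at h'
  have h2 : α * α = 1 := by
    have := mul_right_cancel h'
    nth_rewrite 2 [this]
    exact mul_inv_cancel α
  have := orderOf_dvd_of_pow_eq_one (n := 2) (x := α) (by rwa [pow_two])
  rw [hα4] at this
  exact absurd (Nat.le_of_dvd (by norm_num) this) (by norm_num)

/-- A `p`-group whose subgroups of equal order are isomorphic. -/
theorem shape (hQ : IsPGroup p Q) (hiso : ∀ H K : Subgroup Q, Nat.card H = Nat.card K → Nonempty (H ≃* K)) :
    IsCyclic Q ∨ ((∀ a b : Q, a * b = b * a) ∧ ∀ x : Q, x ^ p = 1) ∨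
      Nonempty (Q ≃* QuaternionGroup 2) ∨
      (p ≠ 2 ∧ (∀ x : Q, x ^ p = 1) ∧ Nat.card Q = p ^ 3 ∧ Nat.card (center Q) = p) := by
  by_cases hexp : ∀ x : Q, x ^ p = 1
  swap
  · -- an element of order `p ^ 2`
    simp only [not_forall] at hexp
    obtain ⟨x, hx⟩ := hexp
    obtain ⟨k, hk⟩ := IsPGroup.iff_orderOf.1 hQ x
    have hk2 : 2 ≤ k := by
      by_contra h
      exact hx (orderOf_dvd_iff_pow_eq_one.1 (hk ▸ (pow_dvd_pow p (show k ≤ 1 by omega)).trans (pow_one p).dvd))
    set y := x ^ p ^ (k - 2)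
    have hy : orderOf y = p ^ 2 := by
      rw [orderOf_pow_of_dvd (pow_ne_zero _ hp.out.ne_zero) (hk ▸ pow_dvd_pow p (by omega)), hk,
        Nat.pow_div (by omega) hp.out.pos]
      congr 1
      omega
    have hnopair : ∀ a b : Q, orderOf a = p → orderOf b = p → Commute a b → b ∈ zpowers a := by
      intro a b ha hb hab
      by_contra hba
      obtain ⟨E, -, -, hEc, hEm⟩ := exists_product (zpowers a) (zpowers b)
        (fun u hu v hv => by
          obtain ⟨i, rfl⟩ := mem_zpowers_iff.1 hu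
          obtain ⟨j, rfl⟩ := mem_zpowers_iff.1 hv
          exact hab.zpow_zpow i j)
        (disjoint_zpowers_prime hb hba)
      rw [Nat.card_zpowers, Nat.card_zpowers, ha, hb] at hEc
      obtain ⟨φ⟩ := hiso (zpowers y) E (by rw [Nat.card_zpowers, hy, hEc, pow_two])
      have h1 : ((φ ⟨y, mem_zpowers y⟩ : E) : Q) ^ p = 1 := by
        obtain ⟨u, hu, v, hv, e⟩ := hEm _ (φ ⟨y, mem_zpowers y⟩).2
        obtain ⟨i, rfl⟩ := mem_zpowers_iff.1 hu
        obtain ⟨j, rfl⟩ := mem_zpowers_iff.1 hv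
        rw [e, (hab.zpow_zpow i j).mul_pow]
        have ha1 : a ^ p = 1 := ha ▸ pow_orderOf_eq_one a
        have hb1 : b ^ p = 1 := hb ▸ pow_orderOf_eq_one b
        rw [← zpow_natCast, ← zpow_natCast, ← zpow_mul, ← zpow_mul, mul_comm i, mul_comm j, zpow_mul, zpow_mul,
          zpow_natCast, zpow_natCast, ha1, hb1, one_zpow, one_zpow, one_mul]
      have h2 : φ ((⟨y, mem_zpowers y⟩ : zpowers y) ^ p) = 1 := by
        rw [map_pow]; exact Subtype.ext h1
      rw [map_eq_one_iff φ φ.injective] at h2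
      have h3 : y ^ p = 1 := congrArg Subtype.val h2
      have := orderOf_dvd_of_pow_eq_one h3
      rw [hy] at this
      have := Nat.le_of_dvd hp.out.pos this
      nlinarith [hp.out.one_lt]
    have hu : CfsgLib.Coprime.UniqueOrderP p Q := by
      intro a b ha hb ha1
      haveI : Nontrivial Q := ⟨a, 1, ha1⟩
      haveI := hQ.center_nontrivial
      obtain ⟨z, hz⟩ := exists_prime_orderOf_dvd_card' (G := center Q) p (by
        obtain ⟨n, hn⟩ := IsPGroup.iff_card.1 (hQ.to_subgroup (center Q))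
        rcases n with _ | n
        · exact absurd (Finite.one_lt_card (α := center Q)) (by simp [hn])
        · rw [hn]; exact dvd_pow_self p n.succ_ne_zero)
      have hz' : orderOf (z : Q) = p := by rw [Subgroup.orderOf_coe]; exact hz
      have hza : a ∈ zpowers (z : Q) :=
        hnopair _ a hz' (orderOf_eq_prime ha ha1) ((mem_center_iff.1 z.2 a).symm)
      have hzeq : zpowers a = zpowers (z : Q) := eq_of_le_of_card_ge (zpowers_le.2 hza) (by
        rw [Nat.card_zpowers, Nat.card_zpowers, orderOf_eq_prime ha ha1, hz'])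
      by_cases hb1 : b = 1
      · exact hb1 ▸ one_mem _
      · rw [hzeq]
        exact hnopair _ b hz' (orderOf_eq_prime hb hb1) ((mem_center_iff.1 z.2 b).symm)
    by_cases h2 : p = 2
    · subst h2
      rcases CfsgLib.Coprime.cyclic_or_quaternion_of_unique_two hQ hu with h | ⟨n, ⟨e⟩⟩
      · exact Or.inl h
      · have hn := quaternion_small hiso e
        interval_cases n
        · refine Or.inl ?_
          haveI : IsCyclic (QuaternionGroup (2 ^ 0)) := by
            rw [pow_zero]; exact QuaternionGroup.quaternionGroup_one_isCyclic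
          exact isCyclic_of_surjective e.symm e.symm.surjective
        · exact Or.inr (Or.inr (Or.inl ⟨e⟩))
    · exact Or.inl (CfsgLib.Coprime.isCyclic_of_unique_odd h2 hQ hu)
  · by_cases hab : ∀ a b : Q, a * b = b * a
    · exact Or.inr (Or.inl ⟨hab, hexp⟩)
    have h2 : p ≠ 2 := by
      intro e
      subst e
      refine hab fun a b => ?_
      have h : ∀ x : Q, x⁻¹ = x := fun x => inv_eq_of_mul_eq_one_right (by rw [← pow_two]; exact hexp x)
      calc a * b = (a * b)⁻¹ := (h _).symm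
        _ = b * a := by rw [mul_inv_rev, h, h]
    refine Or.inr (Or.inr (Or.inr ⟨h2, hexp, ?_⟩))
    have hord : ∀ {x : Q}, x ≠ 1 → orderOf x = p := fun hx => orderOf_eq_prime (hexp _) hx
    -- a non-central element of the second centre
    haveI : Nontrivial (Q ⧸ center Q) := QuotientGroup.nontrivial_iff.2 fun e =>
      hab fun a b => (mem_center_iff.1 (e ▸ mem_top b : b ∈ center Q) a)
    haveI := (hQ.to_quotient (center Q)).center_nontrivial
    obtain ⟨x', hx'⟩ := exists_ne (1 : center (Q ⧸ center Q))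
    obtain ⟨x, hx⟩ := QuotientGroup.mk_surjective (x' : Q ⧸ center Q)
    have hxZ : x ∉ center Q := fun h => hx' (Subtype.ext (hx.symm.trans ((QuotientGroup.eq_one_iff x).2 h)))
    have hcomm : ∀ g : Q, x * g * x⁻¹ * g⁻¹ ∈ center Q := fun g => by
      rw [← QuotientGroup.eq_one_iff]
      simp only [QuotientGroup.mk_mul, QuotientGroup.mk_inv, hx]
      rw [← mem_center_iff.1 x'.2 (g : Q ⧸ center Q)]
      group
    obtain ⟨y, hy⟩ : ∃ y, ¬ x * y = y * x := by
      by_contra h
      simp only [not_exists, not_not] at h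
      exact hxZ (mem_center_iff.2 fun g => (h g).symm)
    set c := x * y * x⁻¹ * y⁻¹ with hc_def
    have hcZ : c ∈ center Q := hcomm y
    have hc1 : c ≠ 1 := fun e => hy (by
      rw [← mul_one (y * x), ← mul_one (x * y)]
      calc x * y * 1 = c * (y * x) := by rw [hc_def]; group
        _ = y * x * 1 := by rw [e, one_mul, mul_one])
    have hx1 : x ≠ 1 := fun e => hxZ (e ▸ one_mem _)
    have hcc : ∀ g : Q, Commute g c := fun g => mem_center_iff.1 hcZ g
    obtain ⟨E, hcE, hxE, hEc, hEm⟩ := exists_product (zpowers c) (zpowers x)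
      (fun u hu v hv => by
        obtain ⟨i, rfl⟩ := mem_zpowers_iff.1 hu
        exact ((hcc v).zpow_right i).symm)
      (disjoint_zpowers_prime (hord hx1) fun h => hxZ (zpowers_le.2 hcZ h))
    rw [Nat.card_zpowers, Nat.card_zpowers, hord hc1, hord hx1] at hEc
    have hxE' : x ∈ E := hxE (mem_zpowers x)
    have hcE' : c ∈ E := hcE (mem_zpowers c)
    have hEcomm : ∀ u ∈ E, ∀ v ∈ E, Commute u v := fun u hu v hv => by
      obtain ⟨a, ha, b, hb, rfl⟩ := hEm u hu
      obtain ⟨a', ha', b', hb', rfl⟩ := hEm v hv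
      obtain ⟨i, rfl⟩ := mem_zpowers_iff.1 hb
      obtain ⟨j, rfl⟩ := mem_zpowers_iff.1 hb'
      have hA : ∀ w ∈ zpowers c, ∀ g, Commute g w := fun w hw g => by
        obtain ⟨k, rfl⟩ := mem_zpowers_iff.1 hw
        exact (hcc g).zpow_right k
      exact ((hA a' ha' a).mul_right (hA a ha (x ^ j)).symm).mul_left
        ((hA a' ha' (x ^ i)).mul_right ((Commute.refl x).zpow_zpow i j))
    -- the subgroup generated by `E` and `y`
    have hyn : zpowers y ≤ normalizer (E : Set Q) := by
      have key : ∀ g : Q, (∀ w ∈ ({c, x} : Set Q), g * w * g⁻¹ ∈ E) → ∀ e ∈ E, g * e * g⁻¹ ∈ E := by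
        intro g hg e he
        obtain ⟨a, ha, b, hb, rfl⟩ := hEm e he
        obtain ⟨i, rfl⟩ := mem_zpowers_iff.1 ha
        obtain ⟨j, rfl⟩ := mem_zpowers_iff.1 hb
        rw [show g * (c ^ i * x ^ j) * g⁻¹ = (g * c * g⁻¹) ^ i * (g * x * g⁻¹) ^ j by
          rw [conj_zpow, conj_zpow]; group]
        exact mul_mem (zpow_mem (hg c (by simp)) i) (zpow_mem (hg x (by simp)) j)
      have hall : ∀ g : Q, (x * g * x⁻¹ * g⁻¹ ∈ zpowers c) → ∀ w ∈ ({c, x} : Set Q), g * w * g⁻¹ ∈ E := by
        intro g hg w hw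
        rcases hw with rfl | rfl
        · rw [(hcc g).eq, mul_inv_cancel_right]; exact hcE'
        · rw [show g * w * g⁻¹ = (w * g * w⁻¹ * g⁻¹)⁻¹ * w by group]
          exact mul_mem (inv_mem (hcE hg)) hxE'
      refine zpowers_le.2 (mem_normalizer_iff.2 fun e => ⟨key y (hall y (mem_zpowers c)) e, fun he => ?_⟩)
      have hyi : x * y⁻¹ * x⁻¹ * y⁻¹⁻¹ ∈ zpowers c := by
        have : x * y⁻¹ * x⁻¹ * y⁻¹⁻¹ = y⁻¹ * c⁻¹ * y := by rw [hc_def]; group
        rw [this, mul_assoc, ← ((hcc y).inv_right).eq, inv_mul_cancel_left]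
        exact inv_mem (mem_zpowers c)
      have := key y⁻¹ (hall y⁻¹ hyi) _ he
      rwa [show y⁻¹ * (y * e * y⁻¹) * y⁻¹⁻¹ = e by group] at this
    have hy1 : y ≠ 1 := fun e => hy (by rw [e, mul_one, one_mul])
    have hyE : y ∉ E := fun h => hy (hEcomm x hxE' y h)
    set T := E ⊔ zpowers y with hT
    have hTcard : Nat.card T = p ^ 3 := by
      have h1 := CfsgLib.EABasic.card_sup_mul_card_inf_of_le_normalizer hyn
      have hd := disjoint_zpowers_prime (hord hy1) hyE
      rw [sup_comm, ← hT, inf_comm, disjoint_iff.1 hd, Subgroup.card_bot, mul_one, Nat.card_zpowers, hord hy1,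
        hEc] at h1
      rw [h1]; ring
    have noAb : ∀ A : Subgroup Q, Nat.card A = p ^ 3 → (∀ u ∈ A, ∀ v ∈ A, Commute u v) → False := by
      intro A hA hAc
      obtain ⟨φ⟩ := hiso T A (hTcard.trans hA.symm)
      have h := (hAc _ (φ ⟨x, le_sup_left (b := zpowers y) hxE'⟩).2 _
        (φ ⟨y, le_sup_right (a := E) (mem_zpowers y)⟩).2).eq
      exact hy (congrArg Subtype.val (φ.injective (show φ _ = φ _ by rw [map_mul, map_mul]; exact Subtype.ext h) :
        (⟨x, le_sup_left (b := zpowers y) hxE'⟩ * ⟨y, le_sup_right (a := E) (mem_zpowers y)⟩ : T) =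
          ⟨y, le_sup_right (a := E) (mem_zpowers y)⟩ * ⟨x, le_sup_left (b := zpowers y) hxE'⟩))
    have hcentE : ∀ g : Q, Commute g x → g ∈ E := by
      intro g hg
      by_contra hgE
      have hg1 : g ≠ 1 := fun e => hgE (e ▸ one_mem _)
      have hgE' : ∀ u ∈ E, Commute u g := fun u hu => by
        obtain ⟨a, ha, b, hb, rfl⟩ := hEm u hu
        obtain ⟨i, rfl⟩ := mem_zpowers_iff.1 ha
        obtain ⟨j, rfl⟩ := mem_zpowers_iff.1 hb
        exact ((hcc g).zpow_right i).symm.mul_left (hg.zpow_right j).symm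
      obtain ⟨A, -, -, hAc, hAm⟩ := exists_product E (zpowers g)
        (fun u hu v hv => by obtain ⟨j, rfl⟩ := mem_zpowers_iff.1 hv; exact (hgE' u hu).zpow_right j)
        (disjoint_zpowers_prime (hord hg1) hgE)
      refine noAb A (by rw [hAc, hEc, Nat.card_zpowers, hord hg1]; ring) fun u hu v hv => ?_
      obtain ⟨a, ha, b, hb, rfl⟩ := hAm u hu
      obtain ⟨a', ha', b', hb', rfl⟩ := hAm v hv
      obtain ⟨i, rfl⟩ := mem_zpowers_iff.1 hb
      obtain ⟨j, rfl⟩ := mem_zpowers_iff.1 hb'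
      exact ((hEcomm a ha a' ha').mul_right ((hgE' a ha).zpow_right j)).mul_left
        (((hgE' a' ha').zpow_right i).symm.mul_right ((Commute.refl g).zpow_zpow i j))
    have hZc : center Q = zpowers c := by
      refine le_antisymm (fun z hz => ?_) (zpowers_le.2 hcZ)
      obtain ⟨a, ha, b, hb, rfl⟩ := hEm z (hcentE z (mem_center_iff.1 hz x).symm)
      obtain ⟨i, rfl⟩ := mem_zpowers_iff.1 hb
      have hxi : x ^ i ∈ center Q := by
        have := mul_mem (inv_mem (zpowers_le.2 hcZ ha)) hz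
        rwa [inv_mul_cancel_left] at this
      by_cases h0 : x ^ i = 1
      · rw [h0, mul_one]; exact ha
      · exfalso
        refine hxZ ?_
        have he : zpowers (x ^ i) = zpowers x := eq_of_le_of_card_ge (zpowers_le.2 (zpow_mem (mem_zpowers x) i))
          (by rw [Nat.card_zpowers, Nat.card_zpowers, hord hx1, hord h0])
        exact zpowers_le.2 hxi (he.symm ▸ mem_zpowers x)
    have hZcard : Nat.card (center Q) = p := by rw [hZc, Nat.card_zpowers, hord hc1]
    refine ⟨?_, hZcard⟩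
    let θ : Q →* center Q := MonoidHom.mk' (fun g => ⟨x * g * x⁻¹ * g⁻¹, hcomm g⟩) fun g h => Subtype.ext (by
      show x * (g * h) * x⁻¹ * (g * h)⁻¹ = x * g * x⁻¹ * g⁻¹ * (x * h * x⁻¹ * h⁻¹)
      have e := mem_center_iff.1 (hcomm h) g
      calc x * (g * h) * x⁻¹ * (g * h)⁻¹ = x * g * x⁻¹ * (x * h * x⁻¹ * h⁻¹) * g⁻¹ := by group
        _ = x * g * x⁻¹ * g⁻¹ * (g * (x * h * x⁻¹ * h⁻¹)) * g⁻¹ := by group
        _ = _ := by rw [e]; group)
    have hker : θ.ker ≤ E := fun g hg => hcentE g (by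
      have h : x * g * x⁻¹ * g⁻¹ = 1 := congrArg Subtype.val hg
      show g * x = x * g
      calc g * x = 1 * (g * x) := (one_mul _).symm
        _ = x * g := by rw [← h]; group)
    have h1 : Nat.card θ.ker ∣ p ^ 2 := by
      have := card_dvd_of_le hker
      rwa [hEc, ← pow_two] at this
    have h2' : θ.ker.index ∣ p := by
      rw [index_ker]
      have := card_subgroup_dvd_card θ.range
      rwa [hZcard] at this
    have h3 : Nat.card Q ∣ p ^ 3 := by
      rw [← card_mul_index θ.ker, pow_succ]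
      exact Nat.mul_dvd_mul h1 h2'
    have h4 : p ^ 3 ∣ Nat.card Q := hTcard ▸ card_subgroup_dvd_card T
    exact Nat.dvd_antisymm h3 h4

end CfsgLib.EqualOrder
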